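import Cfsg.Agent.H163.Steinberg
import Cfsg.Agent.FixBN.TwOfBN

/-!
# The Steinberg character extends to every overgroup normalising the group (helper691)

`S` a normal subgroup of a finite group `A` with a split (B,N)-pair of characteristic `p`. The group `A` acts on the
chambers of the building of `S`, permuting the panels, so the space of functions with vanishing panel sums is an
`A`-module extending the Steinberg module of `S`.

* `exists_ext` : a character of `A` of degree `|S|_p` which is irreducible on `S`.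
-/

set_option autoImplicit false

namespace Cfsg.Agent.H691.StExt

open Cfsg Cfsg.Agent.LieExceptional.BNPairCore Cfsg.Agent.Tits.Core Cfsg.Agent.Tits.Core.Bldg Cfsg.Agent.Tits.OfBN
  Cfsg.Agent.Schreier.BNSch Cfsg.Agent.Tits.OppRes Cfsg.Agent.FixBN.OfBN Cfsg.Agent.FixBN Representation

section Action

variable {K : Type*} [Group K] [Finite K] {P : Cfsg.BNPair K} {p : ℕ} [Fact p.Prime] {U : Subgroup K}
  (S : Split P p U)

/-- an element `g` with `g⁻¹ τ(B) g = B` -/
noncomputable def gel (τ : K ≃* K) : K := (TwOfBN.exists_conj S τ).choose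

theorem gel_spec (τ : K ≃* K) (b : K) : (gel S τ)⁻¹ * τ b * gel S τ ∈ P.B ↔ b ∈ P.B :=
  (TwOfBN.exists_conj S τ).choose_spec b

include S in
theorem mk_eq_of {τ : K ≃* K} {g g' : K} (h : ∀ b, g⁻¹ * τ b * g ∈ P.B ↔ b ∈ P.B)
    (h' : ∀ b, g'⁻¹ * τ b * g' ∈ P.B ↔ b ∈ P.B) : g⁻¹ * g' ∈ P.B := by
  apply TwOfBN.mem_of_conj S
  intro b hb
  have h1 : (g⁻¹ * g')⁻¹ * b * (g⁻¹ * g') = g'⁻¹ * τ (τ.symm (g * b * g⁻¹)) * g' := by
    rw [τ.apply_symm_apply]; group
  rw [h1, h', ← h, τ.apply_symm_apply]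
  have h2 : g⁻¹ * (g * b * g⁻¹) * g = b := by group
  rwa [h2]

/-- the action of an automorphism on the chambers -/
noncomputable def th (τ : K ≃* K) : K ⧸ P.B → K ⧸ P.B :=
  Quotient.lift (fun a : K => (QuotientGroup.mk (τ a * gel S τ) : K ⧸ P.B)) (fun a b h => by
    rw [OfBN.mk_eq]
    have h1 : (τ a * gel S τ)⁻¹ * (τ b * gel S τ) = (gel S τ)⁻¹ * τ (a⁻¹ * b) * gel S τ := by
      rw [map_mul, map_inv]; group
    rw [h1, gel_spec]
    exact QuotientGroup.leftRel_apply.1 h)

theorem th_mk (τ : K ≃* K) (a : K) : th S τ (QuotientGroup.mk a) = QuotientGroup.mk (τ a * gel S τ) := rfl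

theorem th_mk_of {τ : K ≃* K} {g : K} (h : ∀ b, g⁻¹ * τ b * g ∈ P.B ↔ b ∈ P.B) (a : K) :
    th S τ (QuotientGroup.mk a) = QuotientGroup.mk (τ a * g) := by
  rw [th_mk, OfBN.mk_eq]
  have h1 : (τ a * gel S τ)⁻¹ * (τ a * g) = (gel S τ)⁻¹ * g := by group
  rw [h1]
  exact mk_eq_of S (gel_spec S τ) h

theorem th_mul (τ σ : K ≃* K) (x : K ⧸ P.B) : th S (σ.trans τ) x = th S τ (th S σ x) := by
  induction x using QuotientGroup.induction_on with
  | _ a =>
  rw [th_mk S σ, th_mk S τ, th_mk_of S (τ := σ.trans τ) (g := τ (gel S σ) * gel S τ)]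
  · show QuotientGroup.mk (τ (σ a) * (τ (gel S σ) * gel S τ)) = _
    rw [map_mul, mul_assoc]
  · intro b
    have h1 : (τ (gel S σ) * gel S τ)⁻¹ * (σ.trans τ) b * (τ (gel S σ) * gel S τ) =
        (gel S τ)⁻¹ * τ ((gel S σ)⁻¹ * σ b * gel S σ) * gel S τ := by
      rw [map_mul, map_mul, map_inv, MulEquiv.trans_apply]; group
    rw [h1, gel_spec, gel_spec]

theorem th_conj (k : K) (x : K ⧸ P.B) : th S (MulAut.conj k) x = k • x := by
  induction x using QuotientGroup.induction_on with
  | _ a =>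
  rw [th_mk_of S (τ := MulAut.conj k) (g := k)]
  · rw [OfBN.smul_mk, MulAut.conj_apply]
    congr 1; group
  · intro b
    have h1 : k⁻¹ * (MulAut.conj k) b * k = b := by rw [MulAut.conj_apply]; group
    rw [h1]

variable [hN : ((P.B ⊓ P.N).subgroupOf P.N).Normal]
  {I : Type*} {M : CoxeterMatrix I} (e : I ≃ P.S) (cs : CoxeterSystem M (WP P))
  (hcs : ∀ i, cs.simple i = QuotientGroup.mk (⟨(e i : K), P.subset (e i).2⟩ : P.N))

theorem th_pan (τ : K ≃* K) (i : I) (x : K ⧸ P.B) :
    ∃ j, ∀ y, y ∈ (bldg P e cs hcs).Pan i x ↔ th S τ y ∈ (bldg P e cs hcs).Pan j (th S τ x) := by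
  set g := gel S τ with hg0
  have hg : ∀ b, g⁻¹ * τ b * g ∈ P.B ↔ b ∈ P.B := gel_spec S τ
  set α : K ≃* K := τ.trans (MulAut.conj g⁻¹) with hαdef
  have hα' : ∀ b, α b = g⁻¹ * τ b * g := by
    intro b
    rw [hαdef]
    simp
  have hα : ∀ b, α b ∈ P.B ↔ b ∈ P.B := fun b => by rw [hα']; exact hg b
  refine ⟨TwOfBN.sigma α hα e cs hcs i, fun y => ?_⟩
  have hδ : ∀ x y : K ⧸ P.B, (bldg P e cs hcs).δ (th S τ x) (th S τ y) =
      TwOfBN.fW P α ((bldg P e cs hcs).δ x y) := by
    intro x y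
    induction x using QuotientGroup.induction_on with
    | _ a =>
    induction y using QuotientGroup.induction_on with
    | _ b =>
    rw [th_mk, th_mk, bldg_δ_mk, bldg_δ_mk, TwOfBN.fW_wt α hα]
    congr 1
    rw [hα', map_mul, map_inv, ← hg0]; group
  have hinj : ∀ x y : K ⧸ P.B, th S τ x = th S τ y ↔ x = y := by
    intro x y
    constructor
    · intro h
      rw [← (bldg P e cs hcs).eq_one, hδ] at h
      rw [← (bldg P e cs hcs).eq_one]
      apply TwOfBN.fW_injective α hα
      rw [h, TwOfBN.fW_one α hα]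
    · rintro rfl; rfl
  rw [mem_Pan, mem_Pan, hinj, hδ, ← TwOfBN.fW_simple α hα e cs hcs i, (TwOfBN.fW_injective α hα).eq_iff]

end Action

section Ext

variable {I : Type*} {M : CoxeterMatrix I} {W : Type*} [Group W] {cs : CoxeterSystem M W} {C : Type*}
  [Fintype C] (Δ : Bldg cs C)

open scoped Classical in
/-- The Steinberg module as a module for a group permuting the chambers and the panels. -/
noncomputable def repA {A : Type*} [Group A] [MulAction A C]
    (h : ∀ (a : A) (i : I) (x : C), ∃ j, ∀ y, y ∈ Δ.Pan i x ↔ a • y ∈ Δ.Pan j (a • x)) :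
    Representation ℂ A (H163.Steinberg.St Δ) where
  toFun g :=
    { toFun := fun f => ⟨fun x => (f : C → ℂ) (g⁻¹ • x), by
        intro i x
        obtain ⟨j, hj⟩ := h g⁻¹ i x
        have h1 := f.2 j (g⁻¹ • x)
        unfold H163.Steinberg.psum at h1 ⊢
        refine Eq.trans ?_ h1
        refine (Fintype.sum_equiv (MulAction.toPerm g) _ _ fun y => ?_).symm
        change (if y ∈ Δ.Pan j (g⁻¹ • x) then (f : C → ℂ) y else 0) =
          if g • y ∈ Δ.Pan i x then (f : C → ℂ) (g⁻¹ • g • y) else 0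
        have h2 : g • y ∈ Δ.Pan i x ↔ y ∈ Δ.Pan j (g⁻¹ • x) := by
          rw [hj, inv_smul_smul]
        rw [inv_smul_smul]
        simp only [h2]⟩
      map_add' := fun _ _ => rfl
      map_smul' := fun _ _ => rfl }
  map_one' := by
    refine LinearMap.ext fun f => Subtype.ext ?_
    funext x
    change (f : C → ℂ) ((1 : A)⁻¹ • x) = (f : C → ℂ) x
    rw [inv_one, one_smul]
  map_mul' g h := by
    refine LinearMap.ext fun f => Subtype.ext ?_
    funext x
    change (f : C → ℂ) ((g * h)⁻¹ • x) = (f : C → ℂ) (h⁻¹ • g⁻¹ • x)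
    rw [mul_inv_rev, mul_smul]

/-- A representation whose restriction is irreducible is irreducible. -/
theorem isIrreducible_of_restrict {A K V : Type*} [Group A] [Group K] [AddCommGroup V] [Module ℂ V]
    (ρ : Representation ℂ A V) (f : K →* A) (h : Representation.IsIrreducible (ρ.comp f : Representation ℂ K V)) :
    ρ.IsIrreducible := by
  have hnt : (⊥ : Subrepresentation (ρ.comp f : Representation ℂ K V)) ≠ ⊤ := h.bot_ne_top
  have hnt' : (⊥ : Subrepresentation ρ) ≠ ⊤ := by
    intro h0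
    apply hnt
    refine SetLike.ext fun z => ?_
    have h1 : z ∈ (⊥ : Subrepresentation ρ) ↔ z ∈ (⊤ : Subrepresentation ρ) := by rw [h0]
    exact h1
  have : Nontrivial (Subrepresentation ρ) := ⟨⊥, ⊤, hnt'⟩
  refine { eq_bot_or_eq_top := fun σ => ?_ }
  let σ' : Subrepresentation (ρ.comp f : Representation ℂ K V) :=
    { toSubmodule := σ.toSubmodule
      apply_mem_toSubmodule := fun g v hv => σ.apply_mem_toSubmodule (f g) hv }
  rcases h.eq_bot_or_eq_top σ' with h1 | h1
  · left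
    refine SetLike.ext fun z => ?_
    have h2 : z ∈ σ' ↔ z ∈ (⊥ : Subrepresentation (ρ.comp f : Representation ℂ K V)) := by rw [h1]
    exact h2
  · right
    refine SetLike.ext fun z => ?_
    have h2 : z ∈ σ' ↔ z ∈ (⊤ : Subrepresentation (ρ.comp f : Representation ℂ K V)) := by rw [h1]
    exact h2

end Ext

/-- **The Steinberg character extends.** `f : K → A` with a compatible homomorphism `ψ : A → Aut K`. -/
theorem exists_ext_hom {K : Type*} [Group K] [Finite K] {A : Type*} [Group A] {p : ℕ} [Fact p.Prime]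
    (h : FixBN.HasSplit p K) (f : K →* A) (ψ : A →* MulAut K) (hψ : ∀ k, ψ (f k) = MulAut.conj k) :
    ∃ χ : A → ℂ, IsIrrCharacter A χ ∧ IsIrrCharacter K (χ ∘ f) ∧ ∀ Q : Sylow p K, χ 1 = Nat.card Q := by
  classical
  obtain ⟨P, U, -, S⟩ := h
  have hN : ((P.B ⊓ P.N).subgroupOf P.N).Normal := Tits.OfBN.normal_subgroupOf P
  obtain ⟨M, cs, hcs⟩ := S0320.result P
  have Sy := FixBN.OfBN.sys (Equiv.refl P.S) cs hcs S
  have : Fintype (K ⧸ P.B) := Fintype.ofFinite _
  let act : MulAction A (K ⧸ P.B) :=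
    { smul := fun a x => th S (ψ a) x
      one_smul := by
        intro x
        show th S (ψ 1) x = x
        rw [map_one, ← map_one (MulAut.conj : K →* MulAut K), th_conj, one_smul]
      mul_smul := by
        intro a b x
        show th S (ψ (a * b)) x = th S (ψ a) (th S (ψ b) x)
        rw [map_mul]
        exact th_mul S (ψ a) (ψ b) x }
  have hsmul : ∀ (k : K) (x : K ⧸ P.B), f k • x = k • x := by
    intro k x
    show th S (ψ (f k)) x = k • x
    rw [hψ, th_conj]
  have hpan : ∀ (a : A) (i : P.S) (x : K ⧸ P.B), ∃ j, ∀ y,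
      y ∈ (bldg P (Equiv.refl P.S) cs hcs).Pan i x ↔ a • y ∈ (bldg P (Equiv.refl P.S) cs hcs).Pan j (a • x) :=
    fun a i x => th_pan S (Equiv.refl P.S) cs hcs (ψ a) i x
  set ρ := repA (bldg P (Equiv.refl P.S) cs hcs) (A := A) hpan with hρ
  have hrestr : (ρ.comp f : Representation ℂ K _) = H163.Steinberg.rep (G := K) Sy.iso := by
    refine MonoidHom.ext fun k => LinearMap.ext fun v => Subtype.ext ?_
    funext x
    change (v : _ → ℂ) ((f k)⁻¹ • x) = (v : _ → ℂ) (k⁻¹ • x)
    rw [← map_inv, hsmul]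
  obtain ⟨c0⟩ : Nonempty (K ⧸ P.B) := ⟨QuotientGroup.mk 1⟩
  have hopp : ∀ c, ∃ d, (bldg P (Equiv.refl P.S) cs hcs).Opp c d := fun c => Tits.Opp.exists_opp _ c
  have hirr := H163.Steinberg.isIrreducible Sy (fun x y => MulAction.exists_smul_eq K x y) c0 (hopp c0)
  have hirrA : ρ.IsIrreducible := isIrreducible_of_restrict ρ f (by rw [hrestr]; exact hirr)
  have hchar : ρ.character ∘ f = (H163.Steinberg.rep (G := K) Sy.iso).character := by
    rw [← hrestr]
    rfl
  refine ⟨ρ.character, Characters.Core.isIrrCharacter_of_rep _ hirrA, ?_, fun Q => ?_⟩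
  · rw [hchar]
    exact Characters.Core.isIrrCharacter_of_rep _ hirr
  · obtain ⟨c, hc⟩ := Sy.exists_fix Q Q.isPGroup'
    have hQ : (Q : Subgroup K) = Sy.U c :=
      (Q.is_maximal' (Sy.isP c) (Sy.max c Q Q.isPGroup' hc)).symm
    have h1 := congrFun hchar 1
    rw [Function.comp_apply, map_one] at h1
    rw [h1, H163.Steinberg.character_apply Sy c (hopp c) 1 (one_mem _), if_pos rfl, ← hQ]

/-- **The Steinberg character extends** to every finite overgroup in which the group is normal. -/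
theorem exists_ext {A : Type*} [Group A] (S : Subgroup A) [S.Normal] [Finite S] {p : ℕ} [Fact p.Prime]
    (h : FixBN.HasSplit p S) :
    ∃ χ : A → ℂ, IsIrrCharacter A χ ∧ IsIrrCharacter S (fun s : S => χ s) ∧ ∀ Q : Sylow p S, χ 1 = Nat.card Q := by
  obtain ⟨χ, h1, h2, h3⟩ := exists_ext_hom h S.subtype MulAut.conjNormal (fun k => by
    ext x
    simp)
  exact ⟨χ, h1, h2, h3⟩

end Cfsg.Agent.H691.StExt
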