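import Cfsg.Agent.H691.SporCore
import Cfsg.Agent.H934.OutB
import Cfsg.Agent.NotCT.Orders
import Cfsg.Agent.S2060
import Cfsg.Agent.S2061
import Cfsg.Agent.S2062
import Cfsg.Agent.S2063
import Cfsg.Agent.S2064
import Cfsg.Agent.S2065
import Cfsg.Agent.S2066
import Cfsg.Agent.S2067
import Cfsg.Agent.S2068
import Cfsg.Agent.S2069
import Cfsg.Agent.S2070
import Cfsg.Agent.S2071
import Cfsg.Agent.S2073
import Cfsg.Agent.S2072
import Cfsg.Agent.S2074
import Cfsg.Agent.S2075
import Cfsg.Agent.S2077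
import Cfsg.Agent.S2078
import Cfsg.Agent.S2076
import Cfsg.Agent.S2079
import Cfsg.Agent.S2080
import Cfsg.Agent.S2081
import Cfsg.Agent.S2082
import Cfsg.Agent.S2083
import Cfsg.Agent.S2084
import Cfsg.Agent.S2085
import Cfsg.Agent.H934.OutAll

/-!
# The sporadic groups and the Tits group (helper691)

`TPs` : every sporadic group (and the Tits group) has two elements with small centralisers;
`spor_false` : the socle is not sporadic.
-/

set_option autoImplicit false

namespace Cfsg.Agent.H691.Spor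

open Cfsg Cfsg.Agent.H934.OutB

universe u v

/-- Every sporadic group (and the Tits group) has two elements with small centralisers. -/
structure TPs : Prop where
  tits : ∀ (S : Type u) [Group S], Lie.IsoTits S → TP S [(3, 5), (3, 13), (5, 13)] (26 ^ 2)
  m11 : ∀ (S : Type u) [Group S], Spor.IsoM11 S → TP S [(2, 11), (3, 5), (3, 11), (5, 11)] (12 ^ 2)
  m12 : ∀ (S : Type u) [Group S], Spor.IsoM12 S → TP S [(2, 11), (3, 5), (3, 11), (5, 11)] (12 ^ 2)
  m22 : ∀ (S : Type u) [Group S], Spor.IsoM22 S → TP S [(2, 7), (2, 11), (3, 5), (3, 7), (3, 11), (5, 7), (5,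
    11), (7, 11)] (12 ^ 2)
  m23 : ∀ (S : Type u) [Group S], Spor.IsoM23 S → TP S [(2, 7), (2, 23), (3, 5), (3, 7), (3, 11), (3, 23), (5,
    7), (5, 11), (5, 23), (7, 11), (7, 23), (11, 23)] (24 ^ 2)
  m24 : ∀ (S : Type u) [Group S], Spor.IsoM24 S → TP S [(2, 7), (2, 23), (3, 5), (3, 7), (3, 11), (3, 23), (5,
    7), (5, 11), (5, 23), (7, 11), (7, 23), (11, 23)] (24 ^ 2)
  j1 : ∀ (S : Type u) [Group S], Spor.IsoJ1 S → TP S [(2, 7), (2, 11), (2, 19), (3, 5), (3, 7), (3, 11), (3,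
    19), (5, 7), (5, 11), (5, 19), (7, 11), (7, 19), (11, 19)] (12 ^ 2)
  j2 : ∀ (S : Type u) [Group S], Spor.IsoJ2 S → TP S [(2, 7), (3, 5), (3, 7), (5, 7)] (50 ^ 2)
  j3 : ∀ (S : Type u) [Group S], Spor.IsoJ3 S → TP S [(2, 17), (2, 19), (3, 17), (3, 19), (5, 17), (5, 19),
    (17, 19)] (20 ^ 2)
  j4 : ∀ (S : Type u) [Group S], Spor.IsoJ4 S → TP S [(2, 23), (2, 29), (2, 37), (2, 43), (3, 23), (3, 29),
    (3, 31), (3, 37), (3, 43), (5, 7), (5, 11), (5, 23), (5, 29), (5, 31), (5, 37), (5, 43), (7, 11), (7, 23),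
    (7, 29), (7, 31), (7, 37), (7, 43), (11, 23), (11, 29), (11, 31), (11, 37), (11, 43), (23, 29), (23, 31),
    (23, 37), (23, 43), (29, 31), (29, 37), (29, 43), (31, 37), (31, 43), (37, 43)] (126 ^ 2)
  co1 : ∀ (S : Type u) [Group S], Spor.IsoCo1 S → TP S [(2, 23), (3, 5), (3, 11), (3, 13), (3, 23), (5, 7),
    (5, 11), (5, 23), (7, 11), (7, 13), (7, 23), (11, 13), (11, 23), (13, 23)] (65 ^ 2)
  co2 : ∀ (S : Type u) [Group S], Spor.IsoCo2 S → TP S [(2, 7), (2, 23), (3, 5), (3, 7), (3, 11), (3, 23), (5,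
    7), (5, 11), (5, 23), (7, 11), (7, 23), (11, 23)] (50 ^ 2)
  co3 : ∀ (S : Type u) [Group S], Spor.IsoCo3 S → TP S [(2, 7), (2, 23), (3, 5), (3, 7), (3, 11), (3, 23), (5,
    7), (5, 11), (5, 23), (7, 11), (7, 23), (11, 23)] (50 ^ 2)
  mcl : ∀ (S : Type u) [Group S], Spor.IsoMcL S → TP S [(2, 7), (2, 11), (3, 5), (3, 7), (3, 11), (5, 7), (5,
    11), (7, 11)] (50 ^ 2)
  hs : ∀ (S : Type u) [Group S], Spor.IsoHS S → TP S [(2, 7), (2, 11), (3, 5), (3, 7), (3, 11), (5, 7), (5,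
    11), (7, 11)] (50 ^ 2)
  suz : ∀ (S : Type u) [Group S], Spor.IsoSuz S → TP S [(2, 11), (3, 5), (3, 11), (3, 13), (5, 7), (5, 11),
    (7, 11), (7, 13), (11, 13)] (65 ^ 2)
  he : ∀ (S : Type u) [Group S], Spor.IsoHe S → TP S [(2, 7), (2, 17), (3, 7), (3, 17), (5, 7), (5, 17), (7,
    17)] (50 ^ 2)
  ru : ∀ (S : Type u) [Group S], Spor.IsoRu S → TP S [(2, 29), (3, 13), (3, 29), (5, 7), (5, 29), (7, 13), (7,
    29), (13, 29)] (65 ^ 2)
  on : ∀ (S : Type u) [Group S], Spor.IsoON S → TP S [(2, 11), (2, 19), (3, 19), (3, 31), (5, 7), (5, 11), (5,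
    19), (5, 31), (7, 11), (7, 19), (7, 31), (11, 19), (11, 31), (19, 31)] (126 ^ 2)
  ly : ∀ (S : Type u) [Group S], Spor.IsoLy S → TP S [(2, 11), (2, 37), (2, 67), (3, 31), (3, 37), (3, 67),
    (5, 7), (5, 11), (5, 31), (5, 37), (5, 67), (7, 11), (7, 31), (7, 37), (7, 67), (11, 31), (11, 37), (11,
    67), (31, 37), (31, 67), (37, 67)] (126 ^ 2)
  fi22 : ∀ (S : Type u) [Group S], Spor.IsoFi22 S → TP S [(2, 11), (3, 5), (3, 11), (3, 13), (5, 7), (5, 11),
    (7, 11), (7, 13), (11, 13)] (65 ^ 2)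
  fi23 : ∀ (S : Type u) [Group S], Spor.IsoFi23 S → TP S [(2, 23), (3, 11), (3, 13), (3, 17), (3, 23), (5, 7),
    (5, 11), (5, 23), (7, 11), (7, 13), (7, 17), (7, 23), (11, 13), (11, 17), (11, 23), (13, 17), (13, 23),
    (17, 23)] (170 ^ 2)
  fi24 : ∀ (S : Type u) [Group S], Spor.IsoFi24' S → TP S [(2, 23), (3, 11), (3, 13), (3, 17), (3, 23), (3,
    29), (5, 7), (5, 11), (5, 23), (7, 11), (7, 13), (7, 17), (7, 23), (7, 29), (11, 13), (11, 17), (11, 23),
    (11, 29), (13, 17), (13, 23), (13, 29), (17, 23), (17, 29), (23, 29)] (290 ^ 2)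
  hn : ∀ (S : Type u) [Group S], Spor.IsoHN S → TP S [(2, 7), (2, 11), (2, 19), (3, 5), (3, 7), (3, 11), (3,
    19), (5, 7), (5, 11), (5, 19), (7, 11), (7, 19), (11, 19)] (50 ^ 2)
  th : ∀ (S : Type u) [Group S], Spor.IsoTh S → TP S [(2, 19), (3, 13), (3, 19), (3, 31), (5, 7), (5, 19), (5,
    31), (7, 13), (7, 19), (7, 31), (13, 19), (13, 31), (19, 31)] (126 ^ 2)
  b : ∀ (S : Type u) [Group S], Spor.IsoB S → TP S [(2, 19), (2, 47), (3, 13), (3, 17), (3, 19), (3, 31), (3,
    47), (5, 7), (5, 11), (5, 19), (5, 23), (5, 31), (5, 47), (7, 11), (7, 13), (7, 17), (7, 19), (7, 23), (7,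
    31), (7, 47), (11, 13), (11, 17), (11, 19), (11, 23), (11, 31), (11, 47), (13, 19), (13, 23), (13, 31),
    (13, 47), (17, 19), (17, 23), (17, 31), (17, 47), (19, 23), (19, 31), (19, 47), (23, 31), (23, 47), (31,
    47)] (2210 ^ 2)
  m : ∀ (S : Type u) [Group S], Spor.IsoM S → TP S [(2, 19), (2, 47), (2, 59), (2, 71), (3, 13), (3, 17), (3,
    19), (3, 29), (3, 41), (3, 47), (3, 59), (3, 71), (5, 11), (5, 19), (5, 23), (5, 31), (5, 47), (5, 59),
    (5, 71), (7, 11), (7, 13), (7, 17), (7, 19), (7, 23), (7, 29), (7, 31), (7, 41), (7, 47), (7, 59), (7,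
    71), (11, 13), (11, 17), (11, 19), (11, 23), (11, 29), (11, 41), (11, 47), (11, 59), (11, 71), (13, 19),
    (13, 23), (13, 29), (13, 31), (13, 41), (13, 47), (13, 59), (13, 71), (17, 19), (17, 23), (17, 29), (17,
    31), (17, 41), (17, 47), (17, 59), (17, 71), (19, 23), (19, 29), (19, 31), (19, 41), (19, 47), (19, 59),
    (19, 71), (23, 29), (23, 31), (23, 41), (23, 47), (23, 59), (23, 71), (29, 31), (29, 41), (29, 47), (29,
    59), (29, 71), (31, 41), (31, 47), (31, 59), (31, 71), (41, 47), (41, 59), (41, 71), (47, 59), (47, 71),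
    (59, 71)] (2210 ^ 2)

theorem out_dvd' {X : Type u} [Group X] {Y : Type v} [Group Y] (h : Nat.card (Cfsg.Out Y) ∣ 2)
    (e : Nonempty (X ≃* Y)) : Nat.card (Cfsg.Out X) ∣ 2 := by
  obtain ⟨e⟩ := e
  rwa [card_out_congr e]

theorem out_dvd {X : Type u} {Y : Type*} [Group X] [Group Y] (e : Nonempty (X ≃* Y)) {n : ℕ}
    (h : Nat.card (Cfsg.Out Y) = n) (hn : n ∣ 2) : Nat.card (Cfsg.Out X) ∣ 2 := by
  obtain ⟨e⟩ := e
  rw [card_out_congr e, h]
  exact hn

theorem tits_data (T : TPs.{u}) {S : Type u} [Group S] (hS : Lie.IsoTits S) : SD S := by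
  have hout : Nat.card (Cfsg.Out S) ∣ 2 := by
    obtain ⟨e⟩ := hS
    obtain ⟨e'⟩ := Cfsg.Agent.TitsK.exists_equiv
    have hfin : Finite Cfsg.Agent.FourTwo.Base.LL := by infer_instance
    have h1 : Nat.card (Cfsg.Out ↥Cfsg.Agent.TitsK.TT) ∣ 2 := Cfsg.Agent.TitsK.tdata.index_inn
    exact out_dvd' h1 ⟨e.trans e'⟩
  exact ⟨hout, _, 26, 27, [(2, 11), (3, 3), (5, 2), (13, 1)],
    _, NotCT.Orders.tits hS, T.tits _ hS, by decide +kernel, by decide +kernel, by norm_num, by norm_num, by norm_num,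
    by decide +kernel⟩

theorem m11_data (T : TPs.{u}) {S : Type u} [Group S] (hS : Spor.IsoM11 S) : SD S := by
  have hout : Nat.card (Cfsg.Out S) ∣ 2 := out_dvd hS Cfsg.Agent.S2060.result (by norm_num)
  exact ⟨hout, _, 12, 15, [(2, 4), (3, 2), (5, 1), (11, 1)],
    _, NotCT.Orders.m11 hS, T.m11 _ hS, by decide +kernel, by decide +kernel, by norm_num, by norm_num, by norm_num,
    by decide +kernel⟩

theorem m12_data (T : TPs.{u}) {S : Type u} [Group S] (hS : Spor.IsoM12 S) : SD S := by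
  have hout : Nat.card (Cfsg.Out S) ∣ 2 := out_dvd hS Cfsg.Agent.S2061.result (by norm_num)
  exact ⟨hout, _, 12, 19, [(2, 6), (3, 3), (5, 1), (11, 1)],
    _, NotCT.Orders.m12 hS, T.m12 _ hS, by decide +kernel, by decide +kernel, by norm_num, by norm_num, by norm_num,
    by decide +kernel⟩

theorem m22_data (T : TPs.{u}) {S : Type u} [Group S] (hS : Spor.IsoM22 S) : SD S := by
  have hout : Nat.card (Cfsg.Out S) ∣ 2 := out_dvd hS Cfsg.Agent.S2062.result (by norm_num)
  exact ⟨hout, _, 12, 21, [(2, 7), (3, 2), (5, 1), (7, 1), (11, 1)],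
    _, NotCT.Orders.m22 hS, T.m22 _ hS, by decide +kernel, by decide +kernel, by norm_num, by norm_num, by norm_num,
    by decide +kernel⟩

theorem m23_data (T : TPs.{u}) {S : Type u} [Group S] (hS : Spor.IsoM23 S) : SD S := by
  have hout : Nat.card (Cfsg.Out S) ∣ 2 := out_dvd hS Cfsg.Agent.S2063.result (by norm_num)
  exact ⟨hout, _, 24, 26, [(2, 7), (3, 2), (5, 1), (7, 1), (11, 1), (23, 1)],
    _, NotCT.Orders.m23 hS, T.m23 _ hS, by decide +kernel, by decide +kernel, by norm_num, by norm_num, by norm_num,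
    by decide +kernel⟩

theorem m24_data (T : TPs.{u}) {S : Type u} [Group S] (hS : Spor.IsoM24 S) : SD S := by
  have hout : Nat.card (Cfsg.Out S) ∣ 2 := out_dvd hS Cfsg.Agent.S2064.result (by norm_num)
  exact ⟨hout, _, 24, 30, [(2, 10), (3, 3), (5, 1), (7, 1), (11, 1), (23, 1)],
    _, NotCT.Orders.m24 hS, T.m24 _ hS, by decide +kernel, by decide +kernel, by norm_num, by norm_num, by norm_num,
    by decide +kernel⟩

theorem j1_data (T : TPs.{u}) {S : Type u} [Group S] (hS : Spor.IsoJ1 S) : SD S := by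
  have hout : Nat.card (Cfsg.Out S) ∣ 2 := out_dvd hS Cfsg.Agent.S2065.result (by norm_num)
  exact ⟨hout, _, 12, 20, [(2, 3), (3, 1), (5, 1), (7, 1), (11, 1), (19, 1)],
    _, NotCT.Orders.j1 hS, T.j1 _ hS, by decide +kernel, by decide +kernel, by norm_num, by norm_num, by norm_num,
    by decide +kernel⟩

theorem j2_data (T : TPs.{u}) {S : Type u} [Group S] (hS : Spor.IsoJ2 S) : SD S := by
  have hout : Nat.card (Cfsg.Out S) ∣ 2 := out_dvd hS Cfsg.Agent.S2066.result (by norm_num)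
  exact ⟨hout, _, 50, 22, [(2, 7), (3, 3), (5, 2), (7, 1)],
    _, NotCT.Orders.j2 hS, T.j2 _ hS, by decide +kernel, by decide +kernel, by norm_num, by norm_num, by norm_num,
    by decide +kernel⟩

theorem j3_data (T : TPs.{u}) {S : Type u} [Group S] (hS : Spor.IsoJ3 S) : SD S := by
  have hout : Nat.card (Cfsg.Out S) ∣ 2 := by
    obtain ⟨F, _, _, ω, hF, hω, e⟩ := hS
    exact out_dvd e (Cfsg.Agent.S2067.result hF ω hω) (by norm_num)
  exact ⟨hout, _, 20, 28, [(2, 7), (3, 5), (5, 1), (17, 1), (19, 1)],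
    _, NotCT.Orders.j3 hS, T.j3 _ hS, by decide +kernel, by decide +kernel, by norm_num, by norm_num, by norm_num,
    by decide +kernel⟩

theorem j4_data (T : TPs.{u}) {S : Type u} [Group S] (hS : Spor.IsoJ4 S) : SD S := by
  have hout : Nat.card (Cfsg.Out S) ∣ 2 := out_dvd hS Cfsg.Agent.S2068.result (by norm_num)
  exact ⟨hout, _, 126, 69, [(2, 21), (3, 3), (5, 1), (7, 1), (11, 3), (23, 1), (29, 1), (31, 1), (37, 1), (43, 1)],
    _, NotCT.Orders.j4 hS, T.j4 _ hS, by decide +kernel, by decide +kernel, by norm_num, by norm_num, by norm_num,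
    by decide +kernel⟩

theorem co1_data (T : TPs.{u}) {S : Type u} [Group S] (hS : Spor.IsoCo1 S) : SD S := by
  have hout : Nat.card (Cfsg.Out S) ∣ 2 := out_dvd hS Cfsg.Agent.S2069.result (by norm_num)
  exact ⟨hout, _, 65, 64, [(2, 21), (3, 9), (5, 4), (7, 2), (11, 1), (13, 1), (23, 1)],
    _, NotCT.Orders.co1 hS, T.co1 _ hS, by decide +kernel, by decide +kernel, by norm_num, by norm_num, by norm_num,
    by decide +kernel⟩

theorem co2_data (T : TPs.{u}) {S : Type u} [Group S] (hS : Spor.IsoCo2 S) : SD S := by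
  have hout : Nat.card (Cfsg.Out S) ∣ 2 := out_dvd hS Cfsg.Agent.S2070.result (by norm_num)
  exact ⟨hout, _, 50, 48, [(2, 18), (3, 6), (5, 3), (7, 1), (11, 1), (23, 1)],
    _, NotCT.Orders.co2 hS, T.co2 _ hS, by decide +kernel, by decide +kernel, by norm_num, by norm_num, by norm_num,
    by decide +kernel⟩

theorem co3_data (T : TPs.{u}) {S : Type u} [Group S] (hS : Spor.IsoCo3 S) : SD S := by
  have hout : Nat.card (Cfsg.Out S) ∣ 2 := out_dvd hS Cfsg.Agent.S2071.result (by norm_num)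
  exact ⟨hout, _, 50, 41, [(2, 10), (3, 7), (5, 3), (7, 1), (11, 1), (23, 1)],
    _, NotCT.Orders.co3 hS, T.co3 _ hS, by decide +kernel, by decide +kernel, by norm_num, by norm_num, by norm_num,
    by decide +kernel⟩

theorem mcl_data (T : TPs.{u}) {S : Type u} [Group S] (hS : Spor.IsoMcL S) : SD S := by
  have hout : Nat.card (Cfsg.Out S) ∣ 2 := out_dvd hS Cfsg.Agent.S2073.result (by norm_num)
  exact ⟨hout, _, 50, 32, [(2, 7), (3, 6), (5, 3), (7, 1), (11, 1)],
    _, NotCT.Orders.mcl hS, T.mcl _ hS, by decide +kernel, by decide +kernel, by norm_num, by norm_num, by norm_num,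
    by decide +kernel⟩

theorem hs_data (T : TPs.{u}) {S : Type u} [Group S] (hS : Spor.IsoHS S) : SD S := by
  have hout : Nat.card (Cfsg.Out S) ∣ 2 := out_dvd hS Cfsg.Agent.S2072.result (by norm_num)
  exact ⟨hout, _, 50, 28, [(2, 9), (3, 2), (5, 3), (7, 1), (11, 1)],
    _, NotCT.Orders.hs hS, T.hs _ hS, by decide +kernel, by decide +kernel, by norm_num, by norm_num, by norm_num,
    by decide +kernel⟩

theorem suz_data (T : TPs.{u}) {S : Type u} [Group S] (hS : Spor.IsoSuz S) : SD S := by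
  have hout : Nat.card (Cfsg.Out S) ∣ 2 := out_dvd hS Cfsg.Agent.S2074.result (by norm_num)
  exact ⟨hout, _, 65, 41, [(2, 13), (3, 7), (5, 2), (7, 1), (11, 1), (13, 1)],
    _, NotCT.Orders.suz hS, T.suz _ hS, by decide +kernel, by decide +kernel, by norm_num, by norm_num, by norm_num,
    by decide +kernel⟩

theorem he_data (T : TPs.{u}) {S : Type u} [Group S] (hS : Spor.IsoHe S) : SD S := by
  have hout : Nat.card (Cfsg.Out S) ∣ 2 := out_dvd hS Cfsg.Agent.S2075.result (by norm_num)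
  exact ⟨hout, _, 50, 34, [(2, 10), (3, 3), (5, 2), (7, 3), (17, 1)],
    _, NotCT.Orders.he hS, T.he _ hS, by decide +kernel, by decide +kernel, by norm_num, by norm_num, by norm_num,
    by decide +kernel⟩

theorem ru_data (T : TPs.{u}) {S : Type u} [Group S] (hS : Spor.IsoRu S) : SD S := by
  have hout : Nat.card (Cfsg.Out S) ∣ 2 := out_dvd hS Cfsg.Agent.S2077.result (by norm_num)
  exact ⟨hout, _, 65, 40, [(2, 14), (3, 3), (5, 3), (7, 1), (13, 1), (29, 1)],
    _, NotCT.Orders.ru hS, T.ru _ hS, by decide +kernel, by decide +kernel, by norm_num, by norm_num, by norm_num,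
    by decide +kernel⟩

theorem on_data (T : TPs.{u}) {S : Type u} [Group S] (hS : Spor.IsoON S) : SD S := by
  have hout : Nat.card (Cfsg.Out S) ∣ 2 := out_dvd hS Cfsg.Agent.S2078.result (by norm_num)
  exact ⟨hout, _, 126, 41, [(2, 9), (3, 4), (5, 1), (7, 3), (11, 1), (19, 1), (31, 1)],
    _, NotCT.Orders.on hS, T.on _ hS, by decide +kernel, by decide +kernel, by norm_num, by norm_num, by norm_num,
    by decide +kernel⟩

theorem ly_data (T : TPs.{u}) {S : Type u} [Group S] (hS : Spor.IsoLy S) : SD S := by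
  have hout : Nat.card (Cfsg.Out S) ∣ 2 := out_dvd hS Cfsg.Agent.S2076.result (by norm_num)
  exact ⟨hout, _, 126, 58, [(2, 8), (3, 7), (5, 6), (7, 1), (11, 1), (31, 1), (37, 1), (67, 1)],
    _, NotCT.Orders.ly hS, T.ly _ hS, by decide +kernel, by decide +kernel, by norm_num, by norm_num, by norm_num,
    by decide +kernel⟩

theorem fi22_data (T : TPs.{u}) {S : Type u} [Group S] (hS : Spor.IsoFi22 S) : SD S := by
  have hout : Nat.card (Cfsg.Out S) ∣ 2 := out_dvd hS Cfsg.Agent.S2079.result (by norm_num)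
  exact ⟨hout, _, 65, 48, [(2, 17), (3, 9), (5, 2), (7, 1), (11, 1), (13, 1)],
    _, NotCT.Orders.fi22 hS, T.fi22 _ hS, by decide +kernel, by decide +kernel, by norm_num, by norm_num, by norm_num,
    by decide +kernel⟩

theorem fi23_data (T : TPs.{u}) {S : Type u} [Group S] (hS : Spor.IsoFi23 S) : SD S := by
  have hout : Nat.card (Cfsg.Out S) ∣ 2 := out_dvd hS Cfsg.Agent.S2080.result (by norm_num)
  exact ⟨hout, _, 170, 64, [(2, 18), (3, 13), (5, 2), (7, 1), (11, 1), (13, 1), (17, 1), (23, 1)],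
    _, NotCT.Orders.fi23 hS, T.fi23 _ hS, by decide +kernel, by decide +kernel, by norm_num, by norm_num, by norm_num,
    by decide +kernel⟩

theorem fi24_data (T : TPs.{u}) {S : Type u} [Group S] (hS : Spor.IsoFi24' S) : SD S := by
  have hout : Nat.card (Cfsg.Out S) ∣ 2 := out_dvd hS Cfsg.Agent.S2081.result (by norm_num)
  exact ⟨hout, _, 290, 83, [(2, 21), (3, 16), (5, 2), (7, 3), (11, 1), (13, 1), (17, 1), (23, 1), (29, 1)],
    _, NotCT.Orders.fi24 hS, T.fi24 _ hS, by decide +kernel, by decide +kernel, by norm_num, by norm_num, by norm_num,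
    by decide +kernel⟩

theorem hn_data (T : TPs.{u}) {S : Type u} [Group S] (hS : Spor.IsoHN S) : SD S := by
  have hout : Nat.card (Cfsg.Out S) ∣ 2 := out_dvd hS Cfsg.Agent.S2082.result (by norm_num)
  exact ⟨hout, _, 50, 50, [(2, 14), (3, 6), (5, 6), (7, 1), (11, 1), (19, 1)],
    _, NotCT.Orders.hn hS, T.hn _ hS, by decide +kernel, by decide +kernel, by norm_num, by norm_num, by norm_num,
    by decide +kernel⟩

theorem th_data (T : TPs.{u}) {S : Type u} [Group S] (hS : Spor.IsoTh S) : SD S := by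
  have hout : Nat.card (Cfsg.Out S) ∣ 2 := out_dvd hS Cfsg.Agent.S2083.result (by norm_num)
  exact ⟨hout, _, 126, 59, [(2, 15), (3, 10), (5, 3), (7, 2), (13, 1), (19, 1), (31, 1)],
    _, NotCT.Orders.th hS, T.th _ hS, by decide +kernel, by decide +kernel, by norm_num, by norm_num, by norm_num,
    by decide +kernel⟩

theorem b_data (T : TPs.{u}) {S : Type u} [Group S] (hS : Spor.IsoB S) : SD S := by
  have hout : Nat.card (Cfsg.Out S) ∣ 2 := out_dvd hS Cfsg.Agent.S2084.result (by norm_num)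
  exact ⟨hout, _, 2210, 114, [(2, 41), (3, 13), (5, 6), (7, 2), (11, 1), (13, 1), (17, 1), (19, 1), (23, 1), (31, 1), (47, 1)],
    _, NotCT.Orders.b hS, T.b _ hS, by decide +kernel, by decide +kernel, by norm_num, by norm_num, by norm_num,
    by decide +kernel⟩

theorem m_data (T : TPs.{u}) {S : Type u} [Group S] (hS : Spor.IsoM S) : SD S := by
  have hout : Nat.card (Cfsg.Out S) ∣ 2 := out_dvd hS Cfsg.Agent.S2085.result (by norm_num)
  exact ⟨hout, _, 2210, 182, [(2, 46), (3, 20), (5, 9), (7, 6), (11, 2), (13, 3), (17, 1), (19, 1), (23, 1), (29, 1), (31, 1), (41, 1), (47, 1), (59, 1), (71, 1)],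
    _, NotCT.Orders.m hS, T.m _ hS, by decide +kernel, by decide +kernel, by norm_num, by norm_num, by norm_num,
    by decide +kernel⟩

theorem sporadic_data (T : TPs.{u}) {S : Type u} [Group S] (hS : IsSporadicGroup S) : SD S := by
  rcases hS with h' | h' | h' | h' | h' | h' | h' | h' | h' | h' | h' | h' | h' | h' | h' | h' | h' | h' | h' | h' | h' |
    h' | h' | h' | h' | h'
  · exact m11_data T h'
  · exact m12_data T h'
  · exact m22_data T h'
  · exact m23_data T h'
  · exact m24_data T h'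
  · exact j1_data T h'
  · exact j2_data T h'
  · exact j3_data T h'
  · exact j4_data T h'
  · exact co1_data T h'
  · exact co2_data T h'
  · exact co3_data T h'
  · exact mcl_data T h'
  · exact hs_data T h'
  · exact suz_data T h'
  · exact he_data T h'
  · exact ru_data T h'
  · exact on_data T h'
  · exact ly_data T h'
  · exact fi22_data T h'
  · exact fi23_data T h'
  · exact fi24_data T h'
  · exact hn_data T h'
  · exact th_data T h'
  · exact b_data T h'
  · exact m_data T h'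

end Cfsg.Agent.H691.Spor
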