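import Cfsg.Agent.H691.LieAll
import Cfsg.Agent.H691.Spor
import Cfsg.Agent.H464.PslDeg
import Cfsg.Agent.OddHalf.Known

/-!
# Identification of the simple section (helper691)

* `known_hasExt` : almost simple groups with a known socle have a character of large degree almost extending one of
  the socle;
* `ident` : if the degrees of the almost simple group `A`, with `A / S` abelian, are in `DS q`, and `p ∣ |S|`, then the
  socle `S` is `PSL₂(q)`.
-/

set_option autoImplicit false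

namespace Cfsg.Agent.H691.Ident

open Cfsg Cfsg.Agent.H691.Lie Cfsg.Agent.H691.Spor Matrix

universe u

theorem hasExt_of_SD {A : Type u} [Group A] [Finite A] {S : Subgroup A} (h : AS A S) (hSD : SD S) : HasExt A S := by
  have := h.normal
  obtain ⟨d, ⟨θ, rfl⟩, h9⟩ := exists_big hSD
  obtain ⟨χ, hχ, ho⟩ := H672.exists_over_subtype S θ.2
  obtain ⟨h1, h2⟩ := H672.charDegree_dvd_of_over S hχ θ.2 ho
  have h3 : S.index ∣ 2 := h.index_dvd_out.trans hSD.1
  have h4 := Nat.le_of_dvd (by norm_num) (h2.trans h3)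
  refine ⟨χ, θ, 2, hχ, θ.2, ho, ?_, by omega⟩
  obtain ⟨k, hk⟩ := h1
  have hpos : 0 < charDegree (θ : S → ℂ) := by omega
  rw [hk, Nat.mul_div_cancel_left _ hpos] at h4
  rw [hk, mul_comm]
  exact Nat.mul_le_mul_right _ h4

/-- the trichotomy -/
theorem cases_known (T : TPs.{u}) {S : Type u} [Group S] (hna : ¬ IsMulCommutative S) (hK : IsKnownSimple' S) :
    (∃ n, 7 ≤ n ∧ Nonempty (S ≃* alternatingGroup (Fin n))) ∨ (∃ r : ℕ, r.Prime ∧ IsLieTypeChar r S) ∨
      IsPSLTwo S ∨ SD S := by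
  rcases OddHalf.Known.classify hna hK with h | ⟨r, hr, -, h⟩ | (h | h) | h
  · rcases alt_cases h with h | h
    · exact Or.inl h
    · exact Or.inr (Or.inr (Or.inl h))
  · exact Or.inr (Or.inl ⟨r, hr, h⟩)
  · exact Or.inr (Or.inl ⟨2, Nat.prime_two, h⟩)
  · exact Or.inr (Or.inr (Or.inr (tits_data T h)))
  · exact Or.inr (Or.inr (Or.inr (sporadic_data T h)))

theorem known_hasExt (T : TPs.{u}) {A : Type u} [Group A] [Finite A] {S : Subgroup A} (h : AS A S)
    (hK : IsKnownSimple' S) : HasExt A S := by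
  have := h.normal
  have := h.simple
  rcases cases_known T h.nonab hK with ⟨n, hn, ⟨e⟩⟩ | ⟨r, hr, h'⟩ | h' | h'
  · exact hasExt_of_alt S hn e
  · obtain ⟨p, hp, h1, h2⟩ := lie_five hr h.nonab h'
    exact hasExt_of_lie S hp h1 h2
  · obtain ⟨p, hp, h1, h2⟩ := isPSLTwo_five h'
    exact hasExt_of_lie S hp h1 h2
  · exact hasExt_of_SD h h'

/-- every degree of `S` divides a degree of `A`, with quotient dividing `|A : S|` -/
theorem exists_mult {A : Type u} [Group A] [Finite A] {S : Subgroup A} [S.Normal] {d : ℕ} (hd : d ∈ charDegrees S) :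
    ∃ x ∈ charDegrees A, d ∣ x ∧ x / d ∣ S.index := by
  obtain ⟨θ, rfl⟩ := hd
  obtain ⟨χ, hχ, ho⟩ := H672.exists_over_subtype S θ.2
  obtain ⟨h1, h2⟩ := H672.charDegree_dvd_of_over S hχ θ.2 ho
  exact ⟨_, ⟨⟨χ, hχ⟩, rfl⟩, h1, h2⟩

theorem dvd_small {a b : ℕ} (h : a ∣ b) (hb : b ≠ 0) (hlt : b < a) : False := by
  have := Nat.le_of_dvd (Nat.pos_of_ne_zero hb) h
  omega

/-- The arithmetic, `r ≥ 7`. -/
theorem arith_seven {r q d₁ d₂ : ℕ} (h7 : 7 ≤ r) (hq : 5 ≤ q) (hr : r ∈ DS q) (h1 : d₁ ∈ DS q) (h2 : d₂ ∈ DS q)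
    (hd₁ : r + 1 ∣ d₁) (hd₂ : r - 1 ∣ d₂) : r = q := by
  have aux : ∀ a b c : ℕ, a ∣ b → a ∣ c → b ≤ c → a ∣ c - b := fun a b c h h' _ => Nat.dvd_sub h' h
  rcases hr with h | h | h | h | h | h
  · omega
  · exact h
  · -- `q = r + 1`
    exfalso
    rcases h2 with h3 | h3 | h3 | h3 | h3 | h3
    · exact dvd_small hd₂ (by omega) (by omega)
    · have := aux (r - 1) (r - 1) d₂ dvd_rfl hd₂ (by omega)
      exact dvd_small this (by omega) (by omega)
    · have := aux (r - 1) (r - 1) d₂ dvd_rfl hd₂ (by omega)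
      exact dvd_small this (by omega) (by omega)
    · have := aux (r - 1) (r - 1) d₂ dvd_rfl hd₂ (by omega)
      exact dvd_small this (by omega) (by omega)
    · exact dvd_small hd₂ (by omega) (by omega)
    · exact dvd_small hd₂ (by omega) (by omega)
  · -- `r = q + 1`
    exfalso
    rcases h1 with h3 | h3 | h3 | h3 | h3 | h3 <;> exact dvd_small hd₁ (by omega) (by omega)
  · -- `2 r = q + 1`
    exfalso
    rcases h1 with h3 | h3 | h3 | h3 | h3 | h3
    · exact dvd_small hd₁ (by omega) (by omega)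
    · have := aux (r + 1) (d₁) (2 * (r + 1)) hd₁ (Dvd.intro_left 2 rfl) (by omega)
      exact dvd_small this (by omega) (by omega)
    · have := aux (r + 1) (d₁) (2 * (r + 1)) hd₁ (Dvd.intro_left 2 rfl) (by omega)
      exact dvd_small this (by omega) (by omega)
    · have := aux (r + 1) (d₁) (2 * (r + 1)) hd₁ (Dvd.intro_left 2 rfl) (by omega)
      exact dvd_small this (by omega) (by omega)
    · exact dvd_small hd₁ (by omega) (by omega)
    · exact dvd_small hd₁ (by omega) (by omega)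
  · -- `2 r + 1 = q`
    exfalso
    rcases h2 with h3 | h3 | h3 | h3 | h3 | h3
    · exact dvd_small hd₂ (by omega) (by omega)
    · have := aux (r - 1) (2 * (r - 1)) d₂ (Dvd.intro_left 2 rfl) hd₂ (by omega)
      exact dvd_small this (by omega) (by omega)
    · have := aux (r - 1) (2 * (r - 1)) d₂ (Dvd.intro_left 2 rfl) hd₂ (by omega)
      exact dvd_small this (by omega) (by omega)
    · have := aux (r - 1) (2 * (r - 1)) d₂ (Dvd.intro_left 2 rfl) hd₂ (by omega)
      exact dvd_small this (by omega) (by omega)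
    · have := aux (r - 1) (r - 1) d₂ dvd_rfl hd₂ (by omega)
      exact dvd_small this (by omega) (by omega)
    · have := aux (r - 1) (r - 1) d₂ dvd_rfl hd₂ (by omega)
      exact dvd_small this (by omega) (by omega)

/-- The arithmetic, `r = 5`. -/
theorem arith_five {q d₃ d₄ : ℕ} (hq5 : 5 ≤ q) (hq6 : q ≠ 6) (hr : 5 ∈ DS q) (h3 : d₃ ∈ DS q)
    (h4 : d₄ ∈ DS q) (hd₃ : 3 ∣ d₃) (hd₄ : 4 ∣ d₄) (h3' : d₃ / 3 ∣ 2) (h4' : d₄ / 4 ∣ 2) : 5 = q := by
  have e3 := Nat.le_of_dvd (by norm_num) h3'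
  have e4 := Nat.le_of_dvd (by norm_num) h4'
  obtain ⟨k, rfl⟩ := hd₃
  obtain ⟨m, rfl⟩ := hd₄
  rw [Nat.mul_div_cancel_left _ (by norm_num)] at e3 h3'
  rw [Nat.mul_div_cancel_left _ (by norm_num)] at e4 h4'
  have hk : k ≠ 0 := by rintro rfl; exact absurd (Nat.eq_zero_of_zero_dvd h3') (by norm_num)
  have hm : m ≠ 0 := by rintro rfl; exact absurd (Nat.eq_zero_of_zero_dvd h4') (by norm_num)
  rcases hr with h | h | h | h | h | h
  · omega
  · exact h
  · omega
  · omega
  · exfalso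
    have hq : q = 9 := by omega
    subst hq
    rcases h3 with h | h | h | h | h | h <;> omega
  · exfalso
    have hq : q = 11 := by omega
    subst hq
    rcases h4 with h | h | h | h | h | h <;> omega

/-- **Identification.** -/
theorem ident (T : TPs.{u}) {A : Type u} [Group A] [Finite A] {S : Subgroup A} (h : AS A S) {p F : ℕ} (hp : p.Prime)
    (h5 : 5 ≤ p ^ F) (hpS : p ∣ Nat.card S) (hD : charDegrees A ⊆ DS (p ^ F)) (hK : IsKnownSimple' S) :
    ∃ (K : Type) (_ : Field K) (_ : Fintype K), Fintype.card K = p ^ F ∧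
      Nonempty (S ≃* ProjectiveSpecialLinearGroup (Fin 2) K) := by
  have := h.normal
  have := h.simple
  have hpsl : IsPSLTwo S := by
    rcases cases_known T h.nonab hK with ⟨n, hn, ⟨e⟩⟩ | ⟨r, hr, h'⟩ | h' | h'
    · exact (H464.AltExt.alt_false h hn e hp h5 hpS hD).elim
    · exact lie_psl h hp h5 hpS hD hr h'
    · exact h'
    · exact (spor_false h hp h5 hpS hD h').elim
  obtain ⟨K, i1, i2, h5K, ⟨e⟩⟩ := hpsl
  refine ⟨K, i1, i2, ?_, ⟨e⟩⟩
  -- the Steinberg character
  obtain ⟨r, hr, hLie, hQ⟩ := psl_two_sylow h5K e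
  have := Fact.mk hr
  have hSt : Fintype.card K ∈ charDegrees A := by
    obtain ⟨χ, hχ, -, hχ1⟩ := StExt.exists_ext S (H996.AllSplit.hasSplit_of_lie hr hLie)
    obtain ⟨Q⟩ := (inferInstance : Nonempty (Sylow r S))
    rw [H681.DegBasic.mem_charDegrees]
    exact ⟨χ, hχ, by rw [hχ1 Q, hQ Q]⟩
  have htr : ∀ d, d ∈ charDegrees (ProjectiveSpecialLinearGroup (Fin 2) K) → d ∈ charDegrees S := fun d hd =>
    H681.DegBasic.charDegrees_comp e.toMonoidHom e.surjective hd
  have hpp : ∀ (a : ℕ) (ha : a.Prime) (b : ℕ), a ^ b ≠ 6 := by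
    intro a ha b h6
    have h2 : 2 ∣ a ^ b := by rw [h6]; norm_num
    have h3 : 3 ∣ a ^ b := by rw [h6]; norm_num
    have e2 := (Nat.prime_dvd_prime_iff_eq Nat.prime_two ha).1 (Nat.prime_two.dvd_of_dvd_pow h2)
    have e3 := (Nat.prime_dvd_prime_iff_eq Nat.prime_three ha).1 (Nat.prime_three.dvd_of_dvd_pow h3)
    omega
  rcases Nat.lt_or_ge (Fintype.card K) 7 with h7 | h7
  · have hK6 : Fintype.card K ≠ 6 := by
      obtain ⟨n, hn, hc⟩ := FiniteField.card K (ringChar K)
      rw [hc]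
      exact hpp _ hn _
    have hK5 : Fintype.card K = 5 := by omega
    obtain ⟨h3, h4, -⟩ := H464.PslDeg.psl_five hK5
    obtain ⟨x, hx, hx3, hx3'⟩ := exists_mult (A := A) (htr _ h3)
    obtain ⟨y, hy, hy4, hy4'⟩ := exists_mult (A := A) (htr _ h4)
    have hout : S.index ∣ 2 := by
      refine h.index_dvd_out.trans ?_
      obtain ⟨e'⟩ := S0253.result (F := K) hK5
      have := isSimple_congr (e.trans e')
      rw [H934.OutB.card_out_congr (e.trans e'),
        H934.OutAll.card_out_alt (by norm_num) (by norm_num) (na_congr (e.trans e') h.nonab)]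
    rw [hK5] at hSt ⊢
    exact arith_five h5 (hpp p hp F) (hD hSt) (hD hx) (hD hy) hx3 hy4 (hx3'.trans hout) (hy4'.trans hout)
  · obtain ⟨h8, h9⟩ := H464.PslDeg.psl_degrees (F := K) h7
    obtain ⟨x, hx, hx1, -⟩ := exists_mult (A := A) (htr _ h8)
    obtain ⟨y, hy, hy1, -⟩ := exists_mult (A := A) (htr _ h9)
    exact arith_seven h7 h5 (hD hSt) (hD hx) (hD hy) hx1 hy1

end Cfsg.Agent.H691.Ident
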