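import Cfsg.Agent.H691.Defs
import Cfsg.Agent.H934.OutB
import Cfsg.Agent.H686.CharKit
import Cfsg.Agent.H681.SimpleChar
import Cfsg.Agent.S0142
import Cfsg.Agent.S0154
import Cfsg.Agent.S0898
import Cfsg.Agent.Involutions.NormalFour
import Cfsg.Agent.Characters.Values

/-!
# Almost simple groups whose degrees lie in `DS q` : both types of degrees occur (helper691)

* `AS.commutator_eq`, `AS.index_dvd_out`;
* `AS.vanish` : an irreducible character of degree a power of `p`, `> 1`, vanishes at a nontrivial element of the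
  socle which is central in a Sylow `p`-subgroup;
* `AS.types` : both `q + 1` and `q - 1` divide `2 * d` for suitable degrees `d > 1`.
-/

set_option autoImplicit false

namespace Cfsg.Agent.H691

open Cfsg Cfsg.Agent.Characters.Core Cfsg.Agent.H681

universe u

variable {A : Type u} [Group A] {S : Subgroup A}

theorem AS.nonab' (h : AS A S) : ¬ ∀ a b : S, a * b = b * a := fun h0 => h.nonab ⟨⟨h0⟩⟩

theorem AS.perfect (h : AS A S) : ⁅S, S⁆ = S := by
  have := h.simple
  have h1 : commutator S = ⊤ := by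
    rcases (inferInstance : (commutator S).Normal).eq_bot_or_eq_top with h2 | h2
    · exfalso
      apply h.nonab'
      intro a b
      have h3 : a * b * a⁻¹ * b⁻¹ ∈ commutator S :=
        Subgroup.commutator_mem_commutator (Subgroup.mem_top a) (Subgroup.mem_top b)
      rw [h2, Subgroup.mem_bot, mul_inv_eq_one, mul_inv_eq_iff_eq_mul] at h3
      exact h3
    · exact h2
  have h2 : (commutator S).map S.subtype = ⁅S, S⁆ := by
    rw [_root_.commutator_def, Subgroup.map_commutator, ← MonoidHom.range_eq_map, Subgroup.range_subtype]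
  rw [← h2, h1, ← MonoidHom.range_eq_map, Subgroup.range_subtype]

theorem AS.commutator_eq (h : AS A S) : commutator A = S := by
  refine le_antisymm h.comm ?_
  rw [← h.perfect]
  exact Subgroup.commutator_mono le_top le_top

/-- The index of the socle divides the order of the outer automorphism group. -/
theorem AS.index_dvd_out [Finite A] (h : AS A S) : S.index ∣ Nat.card (Out S) := by
  have hn := h.normal
  have hs := h.simple
  have hker : (MulAut.conjNormal : A →* MulAut S).ker = ⊥ := by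
    rw [eq_bot_iff, ← h.cent]
    intro a ha
    rw [Subgroup.mem_centralizer_iff]
    intro s hs
    have h1 := DFunLike.congr_fun (MonoidHom.mem_ker.1 ha) ⟨s, hs⟩
    have h2 := congrArg Subtype.val h1
    rw [MulAut.conjNormal_apply, MulAut.one_apply] at h2
    exact (mul_inv_eq_iff_eq_mul.1 h2).symm
  have hinj : Function.Injective (MulAut.conjNormal : A →* MulAut S) := (MonoidHom.ker_eq_bot_iff _).1 hker
  have h1 : Nat.card A ∣ Nat.card (MulAut S) := by
    rw [Nat.card_congr (MonoidHom.ofInjective hinj).toEquiv]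
    exact Subgroup.card_subgroup_dvd_card _
  have h2 := H934.OutB.card_out_mul S h.nonab
  have h3 := S.card_mul_index
  rw [← h2, ← h3, mul_comm (Nat.card S)] at h1
  exact Nat.dvd_of_mul_dvd_mul_right Nat.card_pos h1

/-- An irreducible character of `A` of degree `> 1` is not scalar at a nontrivial element of the socle. -/
theorem AS.norm_ne [Finite A] (h : AS A S) {χ : A → ℂ} (hχ : IsIrrCharacter A χ) (h1 : χ 1 ≠ 1) {z : A} (hz : z ∈ S)
    (hz1 : z ≠ 1) : ‖χ z‖ ≠ ‖χ 1‖ := by
  intro hn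
  have hnorm := h.normal
  have hs := h.simple
  obtain ⟨n, ρ, hρ, rfl⟩ := hχ
  rw [Representation.char_one, Complex.norm_natCast] at hn
  obtain ⟨w, hw⟩ := (Cfsg.Agent.Characters.Values.norm_character_eq_iff ρ z).1 hn
  -- commutators with `z` are in the kernel
  have hcomm : ∀ s : A, ρ (z * s * z⁻¹ * s⁻¹) = 1 := by
    intro s
    have hz' : ρ z * ρ s = ρ s * ρ z := by
      rw [hw]
      ext v
      simp
    have h2 : ρ (z * s) = ρ (s * z) := by rw [map_mul, map_mul, hz']
    calc ρ (z * s * z⁻¹ * s⁻¹) = ρ (z * s) * ρ (z⁻¹ * s⁻¹) := by rw [← map_mul]; congr 1; group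
      _ = ρ (s * z) * ρ (z⁻¹ * s⁻¹) := by rw [h2]
      _ = ρ (s * z * (z⁻¹ * s⁻¹)) := (map_mul ρ _ _).symm
      _ = 1 := by rw [← map_one ρ]; congr 1; group
  -- the kernel on `S`
  let f : S →* ((Fin n → ℂ) →ₗ[ℂ] (Fin n → ℂ)) := ρ.comp S.subtype
  rcases (MonoidHom.normal_ker f).eq_bot_or_eq_top with h3 | h3
  · apply hz1
    have h4 : ∀ y : S, (⟨z, hz⟩ : S) * y = y * ⟨z, hz⟩ := by
      intro y
      have h5 : (⟨z, hz⟩ * y * ⟨z, hz⟩⁻¹ * y⁻¹ : S) ∈ f.ker := by
        rw [MonoidHom.mem_ker]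
        exact hcomm y
      rw [h3, Subgroup.mem_bot, mul_inv_eq_one, mul_inv_eq_iff_eq_mul] at h5
      exact h5
    have h6 := SimpleChar.eq_one_of_central h.nonab' h4
    exact congrArg Subtype.val h6
  · -- `S` is in the kernel of `χ`
    apply h1
    have h4 : S ≤ H686.CharKit.chKer (⟨ρ.character, ⟨n, ρ, hρ, rfl⟩⟩ : IrrCharacter A) := by
      intro y hy
      rw [H686.CharKit.mem_chKer]
      have h5 : (⟨y, hy⟩ : S) ∈ f.ker := by rw [h3]; exact Subgroup.mem_top _
      have h6 : ρ y = 1 := h5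
      show ρ.character y = ρ.character 1
      rw [Representation.character, Representation.character, h6, map_one ρ]
    obtain ⟨ψ, hψ⟩ := H686.CharKit.exists_infl S _ h4
    have h5 : (ψ : A ⧸ S → ℂ) 1 = 1 := by
      apply S0898.irr_one_of_comm _ ψ.2
      intro a b
      induction a using QuotientGroup.induction_on with
      | _ a =>
      induction b using QuotientGroup.induction_on with
      | _ b =>
      rw [← QuotientGroup.mk_mul, ← QuotientGroup.mk_mul, QuotientGroup.eq]
      have h6 : b⁻¹ * a⁻¹ * b⁻¹⁻¹ * a⁻¹⁻¹ ∈ S :=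
        h.comm (Subgroup.commutator_mem_commutator (Subgroup.mem_top _) (Subgroup.mem_top _))
      rw [inv_inv, inv_inv] at h6
      rw [mul_inv_rev]
      simpa [mul_assoc] using h6
    have h6 := congrArg (fun χ : IrrCharacter A => (χ : A → ℂ) 1) hψ
    simp only [H686.CharKit.infl_apply] at h6
    rw [← h6]
    exact h5

/-- A nontrivial element of the socle which is central in a Sylow `p`-subgroup. -/
theorem AS.exists_central [Finite A] (h : AS A S) {p : ℕ} (hp : p.Prime) (hpS : p ∣ Nat.card S) :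
    ∃ z ∈ S, z ≠ 1 ∧ ¬ p ∣ (Subgroup.centralizer ({z} : Set A)).index := by
  have := Fact.mk hp
  have hn := h.normal
  obtain ⟨P⟩ : Nonempty (Sylow p A) := inferInstance
  -- `P ∩ S` is nontrivial
  have hne : (S.subgroupOf (P : Subgroup A)) ≠ ⊥ := by
    intro h0
    rw [Subgroup.subgroupOf_eq_bot] at h0
    -- an element of order `p` of `S` is conjugate into `P`
    obtain ⟨x, hx⟩ := exists_prime_orderOf_dvd_card' (G := S) p hpS
    have hx' : orderOf (x : A) = p := by rw [Subgroup.orderOf_coe, hx]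
    have h1 : IsPGroup p (Subgroup.zpowers (x : A)) := by
      rw [IsPGroup.iff_card]
      exact ⟨1, by rw [Nat.card_zpowers, hx', pow_one]⟩
    obtain ⟨Q, hQ⟩ := h1.exists_le_sylow
    obtain ⟨g, hg⟩ := MulAction.exists_smul_eq A Q P
    have h2 : g * x * g⁻¹ ∈ (P : Subgroup A) := by
      rw [← hg, Sylow.coe_subgroup_smul]
      exact Subgroup.smul_mem_pointwise_smul _ (MulAut.conj g) _ (hQ (Subgroup.mem_zpowers _))
    have h3 : g * x * g⁻¹ ∈ S := hn.conj_mem x x.2 g
    have h4 : g * (x : A) * g⁻¹ = 1 := by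
      have h5 : g * (x : A) * g⁻¹ ∈ S ⊓ P := ⟨h3, h2⟩
      rw [h0.eq_bot] at h5
      exact h5
    rw [conj_eq_one_iff] at h4
    rw [h4, orderOf_one] at hx'
    exact hp.one_lt.ne hx'
  obtain ⟨z, hz, hzc, hzo⟩ := Cfsg.Agent.Involutions.NormalFour.exists_mem_center_of_normal P.isPGroup' _ hne
  refine ⟨z, hz, ?_, ?_⟩
  · intro h0
    have h1 : z = 1 := Subtype.ext h0
    rw [h1, orderOf_one] at hzo
    exact hp.one_lt.ne hzo
  · have hle : (P : Subgroup A) ≤ Subgroup.centralizer ({(z : A)} : Set A) := by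
      intro y hy
      rw [Subgroup.mem_centralizer_singleton_iff]
      exact congrArg Subtype.val (Subgroup.mem_center_iff.1 hzc ⟨y, hy⟩)
    intro h0
    exact P.not_dvd_index (h0.trans (Subgroup.index_dvd_of_le hle))

/-- Characters of `p`-power degree `> 1` vanish at `z`. -/
theorem AS.vanish [Finite A] (h : AS A S) {p : ℕ} (hp : p.Prime) {z : A} (hz : z ∈ S) (hz1 : z ≠ 1)
    (hzc : ¬ p ∣ (Subgroup.centralizer ({z} : Set A)).index) {χ : A → ℂ} (hχ : IsIrrCharacter A χ) {k : ℕ}
    (hk : χ 1 = ((p ^ k : ℕ) : ℂ)) (h1 : χ 1 ≠ 1) : χ z = 0 := by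
  have hn := h.norm_ne hχ h1 hz hz1
  obtain ⟨n, ρ, hρ, rfl⟩ := hχ
  rw [Representation.char_one] at hk
  have hk' : Module.finrank ℂ (Fin n → ℂ) = p ^ k := by exact_mod_cast hk
  rcases Cfsg.Agent.S0142.result ρ z (by
    rw [hk']
    exact Nat.Coprime.pow_left k ((Nat.Prime.coprime_iff_not_dvd hp).2 hzc)) with h2 | h2
  · exact h2
  · exfalso
    apply hn
    rw [h2, Representation.char_one, Complex.norm_natCast]

/-- If all the degrees different from `1` and the powers of `p` have twice them divisible by `m`, then `m` divides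
`2 |A : S|`. -/
theorem AS.dvd_two_index [Finite A] (h : AS A S) {p : ℕ} (hp : p.Prime) (hpS : p ∣ Nat.card S) {m : ℕ}
    (hm : ∀ d ∈ charDegrees A, d = 1 ∨ (∃ k, d = p ^ k) ∨ m ∣ 2 * d) : m ∣ 2 * S.index := by
  classical
  obtain ⟨z, hz, hz1, hzc⟩ := h.exists_central hp hpS
  have := finite_irr (G := A)
  have := Fintype.ofFinite (IrrCharacter A)
  have horth := H686.CharKit.col_orth (G := A) z 1
  rw [if_neg (fun h0 => hz1 (isConj_one_left.1 h0))] at horth
  -- linear characters
  have hlin : ∀ χ : IrrCharacter A, (χ : A → ℂ) 1 = 1 → (χ : A → ℂ) z = 1 := by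
    intro χ h1
    obtain ⟨f, hf⟩ := Cfsg.Agent.Characters.Linear.exists_hom_of_isIrrCharacter χ.2 h1
    have h2 : z ∈ f.ker := by
      have h3 : commutator A ≤ f.ker := Abelianization.commutator_subset_ker f
      rw [h.commutator_eq] at h3
      exact h3 hz
    rw [hf]
    simp only [MonoidHom.mem_ker.1 h2, Units.val_one]
  have hcount : (Finset.univ.filter fun χ : IrrCharacter A => (χ : A → ℂ) 1 = 1).card = S.index := by
    rw [← h.commutator_eq, ← Cfsg.Agent.S0154.result, Nat.card_eq_fintype_card, Fintype.card_subtype]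
  rw [← Finset.sum_filter_add_sum_filter_not Finset.univ fun χ : IrrCharacter A => (χ : A → ℂ) 1 = 1] at horth
  have h1 : ∑ χ ∈ Finset.univ.filter (fun χ : IrrCharacter A => (χ : A → ℂ) 1 = 1), (χ : A → ℂ) z * starRingEnd ℂ ((χ : A → ℂ) 1) = S.index := by
    rw [Finset.sum_congr rfl (g := fun _ => (1 : ℂ)), Finset.sum_const, hcount, nsmul_eq_mul, mul_one]
    intro χ hχ
    rw [Finset.mem_filter] at hχ
    rw [hlin χ hχ.2, hχ.2, map_one, mul_one]
  -- the others
  have hdeg : ∀ χ : IrrCharacter A, (χ : A → ℂ) 1 = (charDegree (χ : A → ℂ) : ℂ) := fun χ =>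
    (H686.CharKit.charDegree_irr χ).symm
  have h2 : ∃ α : ℂ, IsIntegral ℤ α ∧ 2 * ∑ χ ∈ Finset.univ.filter (fun χ : IrrCharacter A => ¬ (χ : A → ℂ) 1 = 1),
      (χ : A → ℂ) z * starRingEnd ℂ ((χ : A → ℂ) 1) = m * α := by
    rw [Finset.mul_sum]
    have h3 : ∀ χ : IrrCharacter A, ∃ α : ℂ, IsIntegral ℤ α ∧ (¬ (χ : A → ℂ) 1 = 1 →
        2 * ((χ : A → ℂ) z * starRingEnd ℂ ((χ : A → ℂ) 1)) = m * α) := by
      intro χ
      by_cases h4 : (χ : A → ℂ) 1 = 1
      · exact ⟨0, isIntegral_zero, fun h => absurd h4 h⟩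
      have hmem : charDegree (χ : A → ℂ) ∈ charDegrees A := ⟨χ, rfl⟩
      rcases hm _ hmem with h5 | ⟨k, h5⟩ | ⟨c, h5⟩
      · exact absurd (by rw [hdeg, h5, Nat.cast_one]) h4
      · refine ⟨0, isIntegral_zero, fun _ => ?_⟩
        rw [h.vanish hp hz hz1 hzc χ.2 (k := k) (by rw [hdeg, h5]) h4]
        ring
      · refine ⟨c * (χ : A → ℂ) z, ?_, fun _ => ?_⟩
        · refine IsIntegral.mul (by exact_mod_cast isIntegral_algebraMap (R := ℤ) (A := ℂ) (x := (c : ℤ))) ?_
          obtain ⟨n, ρ, hρ, h6⟩ := χ.2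
          rw [← h6]
          exact Cfsg.Agent.Characters.AverageRoots.isIntegral_character ρ z
        · rw [hdeg, Complex.conj_natCast]
          have h6 : (2 : ℂ) * (charDegree (χ : A → ℂ) : ℂ) = m * c := by exact_mod_cast h5
          linear_combination ((χ : A → ℂ) z) * h6
    choose α hα hα' using h3
    refine ⟨∑ χ ∈ Finset.univ.filter (fun χ : IrrCharacter A => ¬ (χ : A → ℂ) 1 = 1), α χ, IsIntegral.sum _ fun χ _ => hα χ, ?_⟩
    rw [Finset.mul_sum]
    refine Finset.sum_congr rfl fun χ hχ => ?_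
    rw [Finset.mem_filter] at hχ
    exact hα' χ hχ.2
  obtain ⟨α, hα, h3⟩ := h2
  rw [h1] at horth
  have h4 : (2 * S.index : ℂ) = -(m * α) := by linear_combination 2 * horth - h3
  rcases Nat.eq_zero_or_pos m with hm0 | hm0
  · rw [hm0] at h4 ⊢
    simp only [Nat.cast_zero, zero_mul, neg_zero] at h4
    have h5 : (2 * S.index : ℕ) = 0 := by exact_mod_cast h4
    rw [h5]
  have hmC : (m : ℂ) ≠ 0 := by exact_mod_cast hm0.ne'
  have h5 : IsIntegral ℤ (algebraMap ℚ ℂ ((2 * S.index : ℕ) / (m : ℕ) : ℚ)) := by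
    have h6 : (algebraMap ℚ ℂ ((2 * S.index : ℕ) / (m : ℕ) : ℚ)) = -α := by
      rw [eq_ratCast]
      push_cast
      rw [div_eq_iff hmC, h4]
      ring
    rw [h6]
    exact hα.neg
  have h6 : IsIntegral ℤ ((2 * S.index : ℕ) / (m : ℕ) : ℚ) :=
    (isIntegral_algebraMap_iff (FaithfulSMul.algebraMap_injective ℚ ℂ)).1 h5
  obtain ⟨w, hw⟩ := IsIntegrallyClosed.isIntegral_iff.1 h6
  rw [eq_div_iff (by exact_mod_cast hm0.ne'), eq_intCast] at hw
  have h7 : w * m = ((2 * S.index : ℕ) : ℤ) := by exact_mod_cast hw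
  have h8 : (m : ℤ) ∣ ((2 * S.index : ℕ) : ℤ) := ⟨w, by rw [← h7, mul_comm]⟩
  exact_mod_cast h8

/-- **Both types occur.** -/
theorem AS.types [Finite A] (h : AS A S) {p F : ℕ} (hp : p.Prime) (h5 : 5 ≤ p ^ F) (hpS : p ∣ Nat.card S)
    (hD : charDegrees A ⊆ DS (p ^ F)) (hi : 2 * S.index < p ^ F - 1) :
    p ^ F + 1 ∣ 2 * Nat.card A ∧ p ^ F - 1 ∣ 2 * Nat.card A := by
  have hpos : 0 < S.index := Nat.pos_of_ne_zero Subgroup.index_ne_zero_of_finite
  constructor
  · by_contra hcon
    have h1 : p ^ F - 1 ∣ 2 * S.index := by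
      apply h.dvd_two_index hp hpS
      intro d hd
      rcases hD hd with h2 | h2 | h2 | h2 | h2 | h2
      · exact Or.inl h2
      · exact Or.inr (Or.inl ⟨F, h2⟩)
      · right; right
        exact ⟨2, by omega⟩
      · exfalso
        apply hcon
        rw [← h2]
        exact (DegBasic.dvd_card hd).mul_left 2
      · exfalso
        apply hcon
        rw [← h2]
        exact Nat.mul_dvd_mul_left 2 (DegBasic.dvd_card hd)
      · right; right
        exact ⟨1, by omega⟩
    have := Nat.le_of_dvd (by omega) h1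
    omega
  · by_contra hcon
    have h1 : p ^ F + 1 ∣ 2 * S.index := by
      apply h.dvd_two_index hp hpS
      intro d hd
      rcases hD hd with h2 | h2 | h2 | h2 | h2 | h2
      · exact Or.inl h2
      · exact Or.inr (Or.inl ⟨F, h2⟩)
      · exfalso
        apply hcon
        have h3 : p ^ F - 1 = d := by omega
        rw [h3]
        exact (DegBasic.dvd_card hd).mul_left 2
      · right; right
        exact ⟨2, by omega⟩
      · right; right
        exact ⟨1, by omega⟩
      · exfalso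
        apply hcon
        have h3 : p ^ F - 1 = 2 * d := by omega
        rw [h3]
        exact Nat.mul_dvd_mul_left 2 (DegBasic.dvd_card hd)
    have := Nat.le_of_dvd (by omega) h1
    omega

/-- **The arithmetic exit.** -/
theorem AS.false_of_NF [Finite A] (h : AS A S) {p F : ℕ} (hp : p.Prime) (h5 : 5 ≤ p ^ F) (hpS : p ∣ Nat.card S)
    (hD : charDegrees A ⊆ DS (p ^ F)) {s out : ℕ} (hs : s ∈ charDegrees A) (hout : Nat.card (Out S) ∣ out)
    (hpos : 0 < out) (hNF : NF s (Nat.card S) out) : False := by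
  have h1 : S.index ∣ out := h.index_dvd_out.trans hout
  obtain ⟨h2, h3⟩ := hNF p F hp h5 (hD hs) hpS
  have h4 := Nat.le_of_dvd hpos h1
  obtain ⟨h6, h7⟩ := h.types hp h5 hpS hD (by omega)
  apply h3
  have h8 : 2 * Nat.card A ∣ 2 * Nat.card S * out := by
    rw [← S.card_mul_index, ← mul_assoc]
    exact Nat.mul_dvd_mul_left _ h1
  exact ⟨h6.trans h8, h7.trans h8⟩

end Cfsg.Agent.H691
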