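import Cfsg.Agent.H691.Lie
import Cfsg.Agent.H691.StExt
import Cfsg.Agent.H691.Types
import Cfsg.Agent.H996.AllSplit
import Cfsg.Agent.S0495
import Cfsg.Agent.S0252
import Cfsg.Agent.S0253
import Cfsg.Agent.S0254
import Cfsg.Agent.H464.AltExt
import Cfsg.Agent.H672.Over
import Cfsg.Prelude.Def_Classification2

/-!
# The groups of Lie type (helper691)

`lie_false` : an almost simple group `A` with socle `S` of Lie type, not `PSL₂`, has a character degree outside of
`{1, q, q - 1, q + 1, (q + 1) / 2, (q - 1) / 2}`.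
-/

set_option autoImplicit false

namespace Cfsg.Agent.H691.Lie

open Cfsg Cfsg.Agent.H934.OutB Matrix

universe u

/-- `S` is a group `PSL₂(F)`, `|F| ≥ 5`. -/
def IsPSLTwo (S : Type u) [Group S] : Prop :=
  ∃ (F : Type) (_ : Field F) (_ : Fintype F), 5 ≤ Fintype.card F ∧
    Nonempty (S ≃* ProjectiveSpecialLinearGroup (Fin 2) F)

theorem isPSLTwo_of_five {S : Type u} [Group S] (e : S ≃* alternatingGroup (Fin 5)) : IsPSLTwo S := by
  have h5 : Fact (Nat.Prime 5) := ⟨by norm_num⟩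
  obtain ⟨e'⟩ := S0253.result (F := ZMod 5) (by rw [ZMod.card])
  exact ⟨ZMod 5, inferInstance, inferInstance, by rw [ZMod.card], ⟨e.trans e'.symm⟩⟩

theorem isPSLTwo_of_six {S : Type u} [Group S] (e : S ≃* alternatingGroup (Fin 6)) : IsPSLTwo S := by
  have : Fact (Nat.Prime 3) := ⟨by norm_num⟩
  have : Fintype (GaloisField 3 2) := Fintype.ofFinite _
  have hF : Fintype.card (GaloisField 3 2) = 9 := by
    rw [← Nat.card_eq_fintype_card, GaloisField.card 3 2 (by norm_num)]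
    norm_num
  obtain ⟨e'⟩ := S0254.result hF
  exact ⟨GaloisField 3 2, inferInstance, inferInstance, by rw [hF]; norm_num, ⟨e.trans e'.symm⟩⟩

/-- the alternating groups -/
theorem alt_cases {S : Type u} [Group S] (h : IsAlternating S) :
    (∃ n, 7 ≤ n ∧ Nonempty (S ≃* alternatingGroup (Fin n))) ∨ IsPSLTwo S := by
  obtain ⟨n, hn, ⟨e⟩⟩ := h
  rcases Nat.lt_or_ge n 7 with h7 | h7
  · right
    have h56 : n = 5 ∨ n = 6 := by omega
    rcases h56 with rfl | rfl
    · exact isPSLTwo_of_five e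
    · exact isPSLTwo_of_six e
  · exact Or.inl ⟨n, h7, ⟨e⟩⟩

theorem isSimple_congr {X Y : Type*} [Group X] [Group Y] (e : X ≃* Y) [IsSimpleGroup X] : IsSimpleGroup Y :=
  have : Nontrivial Y := e.symm.toEquiv.nontrivial
  IsSimpleGroup.isSimpleGroup_of_surjective e.toMonoidHom e.surjective

theorem na_congr {X Y : Type*} [Group X] [Group Y] (e : X ≃* Y) (h : ¬ IsMulCommutative X) :
    ¬ IsMulCommutative Y := fun hc => h ⟨⟨fun a b => e.injective (by
      rw [map_mul, map_mul]; exact hc.is_comm.comm _ _)⟩⟩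

theorem lie_conc {p : ℕ} (hp : p.Prime) {S : Type u} [Group S] [Finite S] [IsSimpleGroup S]
    (hna : ¬ IsMulCommutative S) (h : IsLieTypeChar p S) : IsPSLTwo S ∨ Conc p S := by
  have := Fact.mk hp
  rcases h with h | h | h | h | h | h | h | h | h | h | h
  · obtain ⟨F, _, _, _, n, hn, hn2, ⟨e⟩⟩ := h
    have := isSimple_congr e
    rcases hn.eq_or_lt with rfl | hn3
    · left
      rcases (hn2 rfl).eq_or_lt with h4 | h4
      · obtain ⟨e'⟩ := S0252.result h4.symm
        exact isPSLTwo_of_five (e.trans e')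
      · exact ⟨F, inferInstance, inferInstance, h4, ⟨e⟩⟩
    · by_cases h32 : n = 3 ∧ Fintype.card F = 2
      · obtain ⟨rfl, hF⟩ := h32
        left
        have h1 := S0243.result (F := F) rfl 3 (by omega)
        have h168 : Nat.card S = 168 := by
          rw [Nat.card_congr e.toEquiv]
          rw [Fin.prod_univ_succ, Fin.prod_univ_succ, Fin.prod_univ_succ, hF] at h1
          norm_num at h1
          exact h1
        have h5 : Fact (Nat.Prime 7) := ⟨by norm_num⟩
        exact ⟨ZMod 7, inferInstance, inferInstance, by rw [ZMod.card]; norm_num,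
          S0495.result h168 (by rw [ZMod.card])⟩
      · exact Or.inr ((psl hn3 (na_congr e hna) h32).congr e)
  · obtain ⟨F, _, _, _, m, hm, hm2, ⟨e⟩⟩ := h
    have := isSimple_congr e
    exact Or.inr ((psp hm hm2 (na_congr e hna)).congr e)
  · obtain ⟨F, _, _, _, n, q, hF, hn, h32, ⟨e⟩⟩ := h
    have := isSimple_congr e
    exact Or.inr ((psu hF hn h32 (na_congr e hna)).congr e)
  · obtain ⟨F, _, _, _, m, hm, ho, ⟨e⟩⟩ := h
    have := isSimple_congr e
    exact Or.inr ((oodd hm ho (na_congr e hna)).congr e)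
  · obtain ⟨F, _, _, _, m, hm, ⟨e⟩⟩ := h
    have := isSimple_congr e
    exact Or.inr ((oplus hm (na_congr e hna)).congr e)
  · obtain ⟨F, _, _, _, m, a, b, hm, hab, ⟨e⟩⟩ := h
    have := isSimple_congr e
    exact Or.inr ((ominus hm hab (na_congr e hna)).congr e)
  · obtain ⟨F, _, _, _, h⟩ := h
    rcases h with ⟨hF, ⟨e⟩⟩ | ⟨⟨e⟩⟩ | ⟨⟨e⟩⟩ | ⟨⟨e⟩⟩ | ⟨⟨e⟩⟩
    · have := Finite.of_equiv S e.toEquiv
      exact Or.inr ((g2 hF).congr e)
    · have := Finite.of_equiv S e.toEquiv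
      exact Or.inr (f4.congr e)
    · have := Finite.of_equiv S e.toEquiv
      exact Or.inr (e6.congr e)
    · have := Finite.of_equiv S e.toEquiv
      exact Or.inr (e7.congr e)
    · have := Finite.of_equiv S e.toEquiv
      exact Or.inr (e8.congr e)
  · obtain ⟨K, _, _, _, q, hq, h⟩ := h
    rcases h with ⟨hK, ⟨e⟩⟩ | ⟨hK, ⟨e⟩⟩
    · have := Finite.of_equiv S e.toEquiv
      exact Or.inr ((te6 hq hK).congr e)
    · have := Finite.of_equiv S e.toEquiv
      exact Or.inr ((td4 hq hK).congr e)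
  · obtain ⟨rfl, K, _, _, m, hm, hK, ⟨e⟩⟩ := h
    have := Finite.of_equiv S e.toEquiv
    exact Or.inr ((sz hm hK).congr e)
  · obtain ⟨rfl, K, _, _, m, hm, hK, ⟨e⟩⟩ := h
    have := Finite.of_equiv S e.toEquiv
    exact Or.inr ((tf4 hm hK).congr e)
  · obtain ⟨rfl, K, _, _, m, hm, hK, ⟨e⟩⟩ := h
    have := Finite.of_equiv S e.toEquiv
    exact Or.inr ((ree hm hK).congr e)

/-- **Lie type**: the socle is `PSL₂`. -/
theorem lie_psl {A : Type u} [Group A] [Finite A] {S : Subgroup A} (h : AS A S) {p F : ℕ} (hp : p.Prime)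
    (h5 : 5 ≤ p ^ F) (hpS : p ∣ Nat.card S) (hD : charDegrees A ⊆ DS (p ^ F)) {r : ℕ} (hr : r.Prime)
    (hL : IsLieTypeChar r S) : IsPSLTwo S := by
  have := h.normal
  have := h.simple
  have := Fact.mk hr
  rcases lie_conc hr h.nonab hL with h1 | h1
  · exact h1
  · exfalso
    obtain ⟨s, out, -, h2, h3, h4, h5'⟩ := h1
    obtain ⟨χ, hχ, -, hχ1⟩ := StExt.exists_ext S (H996.AllSplit.hasSplit_of_lie hr hL)
    have hs : s ∈ charDegrees A := by
      obtain ⟨Q⟩ := (inferInstance : Nonempty (Sylow r S))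
      rw [H681.DegBasic.mem_charDegrees]
      exact ⟨χ, hχ, by rw [hχ1 Q, h2 Q]⟩
    exact h.false_of_NF hp h5 hpS hD hs h4 h3 h5'

/-- The Sylow subgroups of `PSL₂(F)` in the defining characteristic. -/
theorem psl_two_sylow {S : Type u} [Group S] [Finite S] {F : Type} [Field F] [Fintype F] (h5 : 5 ≤ Fintype.card F)
    (e : S ≃* ProjectiveSpecialLinearGroup (Fin 2) F) :
    ∃ p : ℕ, p.Prime ∧ IsLieTypeChar p S ∧ ∀ Q : Sylow p S, Nat.card Q = Fintype.card F := by
  have hc : CharP F (ringChar F) := ringChar.charP F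
  obtain ⟨f, hp, hf, hF⟩ := exists_deg (F := F) (p := ringChar F)
  refine ⟨ringChar F, hp, Or.inl ⟨F, inferInstance, inferInstance, hc, 2, le_rfl, fun _ => by omega, ⟨e⟩⟩, ?_⟩
  have h3 := S0243.result (F := F) rfl 2 (by omega)
  rw [Fin.prod_univ_two, hF] at h3
  set p := ringChar F
  have hq0 : p ^ f ≠ 0 := pow_ne_zero _ hp.ne_zero
  have hpq : p ∣ p ^ f := dvd_pow_self p (by omega)
  have hd1 : ¬ p ∣ p ^ f - 1 := by
    have := nd_sub (k := 1) hp hpq hq0 one_ne_zero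
    rwa [pow_one] at this
  have h4 : (Nat.gcd 2 (p ^ f - 1) * (p ^ f - 1)) * Nat.card S = p ^ f * (((p ^ f) ^ 2 - 1) * (p ^ f - 1)) := by
    rw [Nat.card_congr e.toEquiv, mul_assoc, h3]
    simp only [Fin.val_zero, Fin.val_one, pow_zero, pow_one]
    have h5 : (p ^ f) ^ 2 - p ^ f = p ^ f * (p ^ f - 1) := by
      rw [Nat.mul_sub, mul_one, pow_two]
    rw [h5]
    ring
  intro Q
  rw [card_sylow hp h4 (nd_mul hp (nd_of_dvd hd1 (Nat.gcd_dvd_right _ _)) hd1)
    (nd_mul hp (nd_sub hp hpq hq0 (by norm_num)) hd1) Q, hF]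

/-- a group of Lie type is of Lie type for a prime with Sylow subgroups of order at least five -/
theorem lie_five {r : ℕ} (hr : r.Prime) {S : Type u} [Group S] [Finite S] [IsSimpleGroup S]
    (hna : ¬ IsMulCommutative S) (h : IsLieTypeChar r S) :
    ∃ p : ℕ, p.Prime ∧ IsLieTypeChar p S ∧ ∀ Q : Sylow p S, 5 ≤ Nat.card Q := by
  rcases lie_conc hr hna h with h1 | h1
  · obtain ⟨F, _, _, h5, ⟨e⟩⟩ := h1
    obtain ⟨p, hp, h2, h3⟩ := psl_two_sylow h5 e
    exact ⟨p, hp, h2, fun Q => by rw [h3]; exact h5⟩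
  · obtain ⟨s, out, h0, h2, -, -, -⟩ := h1
    exact ⟨r, hr, h, fun Q => by rw [h2]; exact h0⟩

theorem isPSLTwo_five {S : Type u} [Group S] [Finite S] (h : IsPSLTwo S) :
    ∃ p : ℕ, p.Prime ∧ IsLieTypeChar p S ∧ ∀ Q : Sylow p S, 5 ≤ Nat.card Q := by
  obtain ⟨F, _, _, h5, ⟨e⟩⟩ := h
  obtain ⟨p, hp, h2, h3⟩ := psl_two_sylow h5 e
  exact ⟨p, hp, h2, fun Q => by rw [h3]; exact h5⟩

/-- There is an irreducible character of `A` over an irreducible character `α` of `S`, of degree at most `c α(1)`, with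
`α(1) > 4 c`. -/
def HasExt (A : Type u) [Group A] (S : Subgroup A) [Finite S] : Prop :=
  ∃ (χ : A → ℂ) (α : S → ℂ) (c : ℕ), IsIrrCharacter A χ ∧ IsIrrCharacter S α ∧ H672.Over S.subtype χ α ∧
    charDegree χ ≤ c * charDegree α ∧ 4 * c + 1 ≤ charDegree α

theorem hasExt_of_ext {A : Type u} [Group A] [Finite A] {S : Subgroup A} {χ : A → ℂ} (hχ : IsIrrCharacter A χ)
    (hχS : IsIrrCharacter S (fun s : S => χ s)) {n : ℕ} (h1 : χ 1 = n) (h5 : 5 ≤ n) : HasExt A S := by
  classical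
  have := Fintype.ofFinite S
  have h2 : charDegree (fun s : S => χ s) = n := H672.charDegree_of_eq h1
  have h3 : charDegree χ = n := H672.charDegree_of_eq h1
  refine ⟨χ, fun s : S => χ s, 1, hχ, hχS, ?_, ?_, ?_⟩
  · rw [H672.over_subtype_iff, Cfsg.Agent.Characters.Core.classInner_irr_self hχS]
    exact one_ne_zero
  · rw [h2, h3, one_mul]
  · rw [h2]
    omega

/-- the alternating groups, Lie type -/
theorem hasExt_of_lie {A : Type u} [Group A] [Finite A] (S : Subgroup A) [S.Normal] [IsSimpleGroup S] {p : ℕ}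
    (hp : p.Prime) (h : IsLieTypeChar p S) (h5 : ∀ Q : Sylow p S, 5 ≤ Nat.card Q) : HasExt A S := by
  have := Fact.mk hp
  obtain ⟨χ, hχ, hχS, hχ1⟩ := StExt.exists_ext S (H996.AllSplit.hasSplit_of_lie hp h)
  obtain ⟨Q⟩ := (inferInstance : Nonempty (Sylow p S))
  exact hasExt_of_ext hχ hχS (hχ1 Q) (h5 Q)

theorem hasExt_of_alt {A : Type u} [Group A] [Finite A] (S : Subgroup A) [S.Normal] {n : ℕ} (hn : 7 ≤ n)
    (e : S ≃* alternatingGroup (Fin n)) : HasExt A S := by
  obtain ⟨χ, hχ, hχS, hχ1⟩ := H464.AltExt.alt_ext S hn e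
  exact hasExt_of_ext hχ hχS hχ1 (by omega)

end Cfsg.Agent.H691.Lie
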