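import Cfsg.Agent.H691.KOne
import Cfsg.Agent.H691.AExt
import Cfsg.Agent.H691.LieAll

/-!
# The simple factor is normalised (helper691)

`top_of_hasExt` : if the degrees of `G` are in `DS q`, `R₀ ⊲ N` with `N / R₀` nonabelian simple, and every almost simple
group with socle `N / R₀` (and abelian top) has an almost extending character, then `R₀` is normalised by `G`.
-/

set_option autoImplicit false

open scoped commutatorElement

namespace Cfsg.Agent.H691.ExtChar

open Cfsg Cfsg.Agent.Characters Cfsg.Agent.Characters.Core Cfsg.Agent.H681.DegBasic Cfsg.Agent.H686.CharKit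
open Cfsg.Agent.H691.Lie Cfsg.Agent.H691.KOne

universe u

variable {G : Type u} [Group G] (N : Subgroup G) [hN : N.Normal]

/-- The normaliser in `G` of a subgroup of `N`. -/
def TR (R : Subgroup N) : Subgroup G where
  carrier := {g | ∀ n : N, (MulAut.conjNormal g : MulAut N) n ∈ R ↔ n ∈ R}
  one_mem' := by
    intro n
    rw [map_one]
    rfl
  mul_mem' := by
    intro a b ha hb n
    rw [map_mul, MulAut.mul_apply, ha, hb]
  inv_mem' := by
    intro a ha n
    rw [← ha, ← MulAut.mul_apply, ← map_mul, mul_inv_cancel, map_one]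
    rfl

theorem le_TR (R : Subgroup N) [hn : R.Normal] : N ≤ TR N R := by
  intro g hg n
  have h1 : (MulAut.conjNormal g : MulAut N) n = (⟨g, hg⟩ : N) * n * (⟨g, hg⟩ : N)⁻¹ := by
    apply Subtype.ext
    rw [MulAut.conjNormal_apply]
    rfl
  rw [h1]
  constructor
  · intro h
    have := hn.conj_mem _ h (⟨g, hg⟩ : N)⁻¹
    simpa [mul_assoc] using this
  · exact fun h => hn.conj_mem _ h _

theorem exists_char [Finite G] (hcomm : commutator G ≤ N) (R : Subgroup N) [hR : R.Normal]
    (hs : IsSimpleGroup (N ⧸ R)) (hna : ¬ IsMulCommutative (N ⧸ R))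
    (hE : ∀ (A : Type u) [Group A] [Finite A] (S : Subgroup A), AS A S → HasExt A S) :
    ∃ (α : IrrCharacter N) (χ : TR N R → ℂ) (c : ℕ), chKer α = R ∧ IsIrrCharacter (TR N R) χ ∧
      H672.Over (Subgroup.inclusion (le_TR N R)) χ (α : N → ℂ) ∧
      charDegree χ ≤ c * charDegree (α : N → ℂ) ∧ 4 * c + 1 ≤ charDegree (α : N → ℂ) := by
  classical
  set Y := TR N R with hY
  set N' : Subgroup Y := N.subgroupOf Y with hN'
  set R' : Subgroup Y := (R.map N.subtype).subgroupOf Y with hR'
  have i1 : N'.Normal := inferInstance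
  have hmem : ∀ (n : N), (n : G) ∈ R.map N.subtype ↔ n ∈ R := by
    intro n
    constructor
    · rintro ⟨m, hm, h⟩
      have : m = n := Subtype.ext h
      rwa [← this]
    · exact fun h => ⟨n, h, rfl⟩
  have i2 : R'.Normal := by
    refine ⟨fun r hr y => ?_⟩
    rw [hR', Subgroup.mem_subgroupOf] at hr ⊢
    obtain ⟨n, hn, hnr⟩ := hr
    have h1 := (y.2 n).2 hn
    refine ⟨_, h1, ?_⟩
    rw [Subgroup.coe_subtype, MulAut.conjNormal_apply]
    have hnr' : (n : G) = (r : G) := hnr
    rw [hnr']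
    rfl
  have hRN : R' ≤ N' := by
    intro y hy
    rw [hR', Subgroup.mem_subgroupOf] at hy
    rw [hN', Subgroup.mem_subgroupOf]
    obtain ⟨n, -, h⟩ := hy
    rw [← h]
    exact n.2
  let eN : N' ≃* N := Subgroup.subgroupOfEquivOfLe (le_TR N R)
  have heN : ∀ x : N', ((eN x : N) : G) = ((x : Y) : G) := fun x => rfl
  have hmap : (R'.subgroupOf N').map eN.toMonoidHom = R := by
    ext n
    constructor
    · rintro ⟨x, hx, rfl⟩
      have h1 : ((x : Y) : G) ∈ R.map N.subtype := hx
      rw [← heN] at h1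
      exact (hmem _).1 h1
    · intro hn
      refine ⟨eN.symm n, ?_, by simp⟩
      change (((eN.symm n : N') : Y) : G) ∈ R.map N.subtype
      rw [← heN, eN.apply_symm_apply]
      exact (hmem _).2 hn
  let eQ : (N' ⧸ R'.subgroupOf N') ≃* (N ⧸ R) := QuotientGroup.congr _ _ eN hmap
  have hs' : IsSimpleGroup (N' ⧸ R'.subgroupOf N') := eQ.isSimpleGroup
  have hna' : ¬ IsMulCommutative (N' ⧸ R'.subgroupOf N') := fun hc =>
    hna ⟨⟨fun a b => eQ.symm.injective (by rw [map_mul, map_mul]; exact hc.is_comm.comm _ _)⟩⟩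
  have hcomm' : commutator Y ≤ N' := by
    rw [commutator_def, Subgroup.commutator_le]
    intro a _ b _
    rw [hN', Subgroup.mem_subgroupOf]
    apply hcomm
    exact Subgroup.commutator_mem_commutator (Subgroup.mem_top (a : G)) (Subgroup.mem_top (b : G))
  let K := AExt.KK N' R'
  let π : Y →* Y ⧸ K := QuotientGroup.mk' K
  let S : Subgroup (Y ⧸ K) := N'.map π
  obtain ⟨hAS, e, he⟩ : AS (Y ⧸ K) S ∧ ∃ e : (N' ⧸ R'.subgroupOf N') ≃* S,
      ∀ n : N', ((e (QuotientGroup.mk n) : S) : Y ⧸ K) = π n := AExt.exists_AS hRN hs' hna' hcomm'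
  obtain ⟨χ, θ, c, hχ, hθ, ho, hc, hb⟩ := hE _ S hAS
  -- the projection of `N` onto `S`
  let g : N →* S := (e.toMonoidHom.comp (QuotientGroup.mk' (R'.subgroupOf N'))).comp eN.symm.toMonoidHom
  have hg : Function.Surjective g :=
    (e.surjective.comp (QuotientGroup.mk'_surjective _)).comp eN.symm.surjective
  have hgval : ∀ n : N, ((g n : S) : Y ⧸ K) = π (Subgroup.inclusion (le_TR N R) n) := by
    intro n
    have h1 := he (eN.symm n)
    exact h1
  have hgker : ∀ n : N, g n = 1 ↔ n ∈ R := by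
    intro n
    have h1 : g n = e (QuotientGroup.mk (eN.symm n)) := rfl
    rw [h1, EmbeddingLike.map_eq_one_iff, QuotientGroup.eq_one_iff, Subgroup.mem_subgroupOf]
    exact hmem n
  have hirr : IsIrrCharacter N (θ ∘ g) := isIrr_comp g hg hθ
  have hnaS : ¬ ∀ a b : S, a * b = b * a := fun h => hAS.nonab ⟨⟨h⟩⟩
  have hsS := hAS.simple
  have hdeg : charDegree (θ ∘ g) = charDegree θ := by
    apply H672.charDegree_of_eq
    rw [Function.comp, map_one, H672.coe_charDegree hθ]
  have hθ1 : θ 1 ≠ 1 := by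
    intro h
    have h1 : charDegree θ = 1 := H672.charDegree_of_eq (by rw [h]; simp)
    have hcpos : c ≠ 0 := by
      rintro rfl
      have := H672.charDegree_pos hχ
      omega
    omega
  refine ⟨⟨θ ∘ g, hirr⟩, χ ∘ π, c, ?_, isIrr_comp π (QuotientGroup.mk'_surjective _) hχ, ?_, ?_, ?_⟩
  · ext n
    rw [mem_chKer, ← hgker n]
    constructor
    · intro h
      have h1 : θ (g n) = θ (g 1) := h
      rw [map_one] at h1
      exact H681.SimpleChar.eq_one_of_norm_eq hnaS hθ hθ1 (by rw [h1])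
    · intro h
      change θ (g n) = θ (g 1)
      rw [h, map_one]
  · have h1 : H672.Over (S.subtype.comp g) χ (θ ∘ g) := by
      refine (H672.over_comp_iff _ _ (isIrr_isCharacter hχ) hirr).2 ⟨θ, hθ, ho, ?_⟩
      have := Fintype.ofFinite N
      rw [H672.over_iff, classInner_irr_self hirr]
      exact one_ne_zero
    have := Fintype.ofFinite N
    rw [H672.over_iff] at h1 ⊢
    have h2 : (χ ∘ π) ∘ (Subgroup.inclusion (le_TR N R)) = χ ∘ (S.subtype.comp g) := by
      funext n
      change χ (π (Subgroup.inclusion (le_TR N R) n)) = χ ((g n : S) : Y ⧸ K)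
      rw [hgval]
    rw [h2]
    exact h1
  · have h1 : charDegree (χ ∘ π) = charDegree χ := by
      apply H672.charDegree_of_eq
      rw [Function.comp, map_one, H672.coe_charDegree hχ]
    change charDegree (χ ∘ π) ≤ c * charDegree (θ ∘ g)
    rw [h1, hdeg]
    exact hc
  · change 4 * c + 1 ≤ charDegree (θ ∘ g)
    rw [hdeg]
    exact hb

/-- **The simple factor is normalised.** -/
theorem top_of_hasExt [Finite G] (hcomm : commutator G ≤ N) (R : Subgroup N) [hR : R.Normal]
    (hs : IsSimpleGroup (N ⧸ R)) (hna : ¬ IsMulCommutative (N ⧸ R))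
    (hE : ∀ (A : Type u) [Group A] [Finite A] (S : Subgroup A), AS A S → HasExt A S)
    {q : ℕ} (h5 : 5 ≤ q) (hD : charDegrees G ⊆ DS q) : (R.map N.subtype).Normal := by
  obtain ⟨α, χ, c, hαR, hχ, ho, hc, hb⟩ := exists_char N hcomm R hs hna hE
  subst hαR
  have h1 : TT N α = ⊤ := top_of_ext N h5 hD α hs hna (χT := χ) hχ ho hc hb
  refine ⟨fun x hx g => ?_⟩
  obtain ⟨n, hn, rfl⟩ := hx
  have hg : g ∈ TT N α := by rw [h1]; exact Subgroup.mem_top g
  refine ⟨_, (hg n).2 hn, ?_⟩
  rw [Subgroup.coe_subtype, MulAut.conjNormal_apply]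

end Cfsg.Agent.H691.ExtChar
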