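import Cfsg.Agent.H691.Defs
import Cfsg.Agent.Lib.Zsigmondy
import Cfsg.Agent.H351.HalfTransNT

/-!
# The arithmetic of the elimination of the groups of Lie type (helper691)

`Zd r m x` : no primitive prime divisor of `r ^ m - 1` divides `x`.
`PD r f Lp Lm x` : the prime divisors of `x` are at most `3`, at most `f`, divide `r`, some `r ^ c - 1` (`c ∈ Lp`) or some
`r ^ c + 1` (`c ∈ Lm`).

* `coreA`, `coreB` : criteria for `NF`.
-/

set_option autoImplicit false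

namespace Cfsg.Agent.H691.Arith

/-- No primitive prime divisor of `r ^ m - 1` divides `x`. -/
def Zd (r m x : ℕ) : Prop := ∀ l : ℕ, l.Prime → (∀ k, l ∣ r ^ k - 1 ↔ m ∣ k) → ¬ l ∣ x

/-- A prime with `m ∣ l - 1`, `m ≥ 3`, is at least `m + 1`. -/
theorem lt_of_prim {r m l : ℕ} (hl : l.Prime) (h : ∀ k, l ∣ r ^ k - 1 ↔ m ∣ k) (hr : 1 ≤ r) (hm : m ≠ 0) : m < l := by
  have hlr : ¬ l ∣ r := by
    intro h0
    have h1 : l ∣ r ^ m - 1 := (h m).2 dvd_rfl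
    have h2 : l ∣ r ^ m := h0.trans (dvd_pow_self r hm)
    have h3 : l ∣ 1 := by
      have h4 : 1 ≤ r ^ m := Nat.one_le_pow _ _ hr
      have h5 := Nat.dvd_sub h2 h1
      have h6 : r ^ m - (r ^ m - 1) = 1 := by omega
      rwa [h6] at h5
    exact hl.one_lt.ne' (Nat.dvd_one.1 h3)
  have h1 : l ∣ r ^ (l - 1) - 1 := by
    have := Fact.mk hl
    have h2 : (r : ZMod l) ≠ 0 := fun h0 => hlr ((ZMod.natCast_eq_zero_iff r l).1 h0)
    have h3 := ZMod.pow_card_sub_one_eq_one h2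
    rw [← ZMod.natCast_eq_zero_iff, Nat.cast_sub (Nat.one_le_pow _ _ hr), Nat.cast_pow, h3]
    simp
  have h2 := Nat.le_of_dvd (by have := hl.two_le; omega) ((h _).1 h1)
  have := hl.two_le
  omega

/-- A primitive prime divisor exists. -/
theorem exists_prim {r m : ℕ} (hr : 2 ≤ r) (hm : 3 ≤ m) (h6 : ¬ (r = 2 ∧ m = 6)) :
    ∃ l : ℕ, l.Prime ∧ (∀ k, l ∣ r ^ k - 1 ↔ m ∣ k) ∧ m < l := by
  obtain ⟨l, h1, h2, -, -⟩ := Lib.Zsigmondy.exists_primitive hr (by omega) (by omega) h6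
  exact ⟨l, h1, h2, lt_of_prim h1 h2 (by omega) (by omega)⟩

theorem dvd_add_one_of_prim {r m l : ℕ} (hl : l.Prime) (hr : 2 ≤ r) (hm : 3 ≤ m)
    (h : ∀ k, l ∣ r ^ k - 1 ↔ 2 * m ∣ k) : l ∣ r ^ m + 1 := by
  have h1 : l ∣ r ^ (2 * m) - 1 := (h _).2 dvd_rfl
  have h2 : r ^ (2 * m) - 1 = (r ^ m - 1) * (r ^ m + 1) := by
    have h3 : 1 ≤ r ^ m := Nat.one_le_pow _ _ (by omega)
    obtain ⟨a, ha⟩ : ∃ a, r ^ m = a + 1 := ⟨r ^ m - 1, by omega⟩
    rw [mul_comm 2 m, pow_mul, ha]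
    have : (a + 1) ^ 2 - 1 = a * (a + 2) := by
      have : (a + 1) ^ 2 = a * (a + 2) + 1 := by ring
      omega
    rw [this]
    have : a + 1 - 1 = a := by omega
    rw [this]
  rw [h2] at h1
  rcases hl.dvd_mul.1 h1 with h3 | h3
  · exfalso
    have h4 := Nat.le_of_dvd (by omega) ((h _).1 h3)
    omega
  · exact h3

/-! ### Prime powers differing by one -/

/-- the solutions of `p ^ F = r ^ M + 1`, `M ≥ 3` -/
theorem succ_eq {r M p F : ℕ} (hr : r.Prime) (hM : 3 ≤ M) (hp : p.Prime) (hF : F ≠ 0) (h : r ^ M + 1 = p ^ F) :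
    (r = 2 ∧ M = 3) ∨ (r = 2 ∧ F = 1) := by
  rcases hr.eq_two_or_odd' with rfl | hodd
  · have hpo : Odd p := by
      rcases hp.eq_two_or_odd' with rfl | h1
      · exfalso
        have h2 : 2 ∣ 2 ^ M := dvd_pow_self 2 (by omega)
        have h3 : 2 ∣ 2 ^ F := dvd_pow_self 2 hF
        omega
      · exact h1
    rcases H351.NT.pow_eq_two_pow_add_one hpo hp.one_lt hF h.symm with h1 | ⟨rfl, rfl⟩
    · exact Or.inr ⟨rfl, h1⟩
    · left
      refine ⟨rfl, ?_⟩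
      have h2 : 2 ^ M = 2 ^ 3 := by omega
      exact Nat.pow_right_injective le_rfl h2
  · exfalso
    have hp2 : p = 2 := by
      rcases hp.eq_two_or_odd' with h1 | h1
      · exact h1
      · exfalso
        obtain ⟨a, ha⟩ := hodd.pow (n := M)
        obtain ⟨b, hb⟩ := h1.pow (n := F)
        omega
    rw [hp2] at h
    have := H351.NT.pow_add_one_eq_two_pow hodd hr.one_lt (by omega) h
    omega

/-- the solutions of `r ^ M = p ^ F + 1`, `M ≥ 3` -/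
theorem pred_eq {r M p F : ℕ} (hr : r.Prime) (hM : 3 ≤ M) (hp : p.Prime) (hF : F ≠ 0) (h : r ^ M = p ^ F + 1) :
    r = 2 ∧ F = 1 := by
  rcases hr.eq_two_or_odd' with rfl | hodd
  · have hpo : Odd p := by
      rcases hp.eq_two_or_odd' with rfl | h1
      · exfalso
        have h2 : 2 ∣ 2 ^ M := dvd_pow_self 2 (by omega)
        have h3 : 2 ∣ 2 ^ F := dvd_pow_self 2 hF
        omega
      · exact h1
    exact ⟨rfl, H351.NT.pow_add_one_eq_two_pow hpo hp.one_lt hF h.symm⟩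
  · exfalso
    have hp2 : p = 2 := by
      rcases hp.eq_two_or_odd' with h1 | h1
      · exact h1
      · exfalso
        obtain ⟨a, ha⟩ := hodd.pow (n := M)
        obtain ⟨b, hb⟩ := h1.pow (n := F)
        omega
    rw [hp2] at h
    rcases H351.NT.pow_eq_two_pow_add_one hodd hr.one_lt (by omega) h with h1 | ⟨-, h1⟩ <;> omega

/-- a Fermat prime `2 ^ M + 1` is a primitive divisor of `2 ^ (2 M) - 1` -/
theorem fermat_prim {M p : ℕ} (hM : 3 ≤ M) (hp : p.Prime) (h : 2 ^ M + 1 = p) :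
    ∀ k, p ∣ 2 ^ k - 1 ↔ 2 * M ∣ k := by
  have := Fact.mk hp
  have hd : ∀ k, p ∣ 2 ^ k - 1 ↔ orderOf (2 : ZMod p) ∣ k := by
    intro k
    rw [orderOf_dvd_iff_pow_eq_one, ← ZMod.natCast_eq_zero_iff, Nat.cast_sub (Nat.one_le_pow _ _ (by norm_num)),
      sub_eq_zero, Nat.cast_pow, Nat.cast_one, Nat.cast_ofNat]
  have h1 : (2 : ZMod p) ^ M = -1 := by
    have h2 : ((2 ^ M + 1 : ℕ) : ZMod p) = 0 := by rw [h]; exact ZMod.natCast_self p
    push_cast at h2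
    exact eq_neg_of_add_eq_zero_left h2
  have h2 : orderOf (2 : ZMod p) ∣ 2 * M := orderOf_dvd_of_pow_eq_one (by rw [mul_comm, pow_mul, h1]; norm_num)
  have h3 : M < orderOf (2 : ZMod p) := by
    by_contra hcon
    have h4 : p ∣ 2 ^ orderOf (2 : ZMod p) - 1 := (hd _).2 dvd_rfl
    have h5 : 0 < orderOf (2 : ZMod p) := by
      rcases Nat.eq_zero_or_pos (orderOf (2 : ZMod p)) with h0 | h0
      · rw [h0] at h2
        have := Nat.eq_zero_of_zero_dvd h2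
        omega
      · exact h0
    have h6 : 2 ^ 1 ≤ 2 ^ orderOf (2 : ZMod p) := Nat.pow_le_pow_right (by norm_num) h5
    have h7 := Nat.le_of_dvd (by omega) h4
    have h8 : 2 ^ orderOf (2 : ZMod p) ≤ 2 ^ M := Nat.pow_le_pow_right (by norm_num) (by omega)
    omega
  have h4 : orderOf (2 : ZMod p) = 2 * M := by
    obtain ⟨c, hc⟩ := h2
    rcases c with _ | _ | c
    · omega
    · omega
    · exfalso
      have h9 : orderOf (2 : ZMod p) * 2 ≤ orderOf (2 : ZMod p) * (c + 1 + 1) := Nat.mul_le_mul_left _ (by omega)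
      omega
  intro k
  rw [hd, h4]

theorem prime_of_prime_two_pow_sub_one {M : ℕ} (hM : 3 ≤ M) (h : (2 ^ M - 1).Prime) : M.Prime :=
  Nat.prime_of_pow_sub_one_prime (by omega) h |>.2

/-- the five equations -/
theorem ds_cases {s p F : ℕ} (h : s ∈ DS (p ^ F)) :
    s = 1 ∨ s = p ^ F ∨ s + 1 = p ^ F ∨ s = p ^ F + 1 ∨ 2 * s = p ^ F + 1 ∨ 2 * s + 1 = p ^ F := h

theorem dvd_aux {l r M : ℕ} {x : ℕ} (hx : x + 1 = r ^ M) (h : l ∣ r ^ M - 1) : l ∣ x := by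
  have : r ^ M - 1 = x := by omega
  rwa [this] at h

theorem not_dvd_two_mul {l a b : ℕ} (hl : l.Prime) (hl2 : 2 < l) (h : ¬ l ∣ a * b) : ¬ l ∣ 2 * a * b := by
  intro h0
  rw [mul_assoc] at h0
  rcases hl.dvd_mul.1 h0 with h1 | h1
  · have := Nat.le_of_dvd (by norm_num) h1
    omega
  · exact h h1

/-- **First criterion.** -/
theorem coreA {r M ord out : ℕ} (hr : r.Prime) (hM : 3 ≤ M) (h2 : ¬ (r = 2 ∧ M.Prime)) (hout : 2 * out + 2 < r ^ M)
    (hZ : Zd r (2 * M) (ord * out))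
    (hP : (∃ M', 3 ≤ M' ∧ M' ∣ M ∧ ¬ (r = 2 ∧ M' = 6) ∧ Zd r M' (ord * out)) ∨
      ∀ p F : ℕ, p.Prime → F ≠ 0 → p ∣ ord → 2 * r ^ M ≠ p ^ F + 1) : NF (r ^ M) ord out := by
  intro p F hp h5 hs hpo
  have hF : F ≠ 0 := by
    rintro rfl
    simp at h5
  obtain ⟨l, hl, hlp, hlM⟩ := exists_prim (r := r) (m := 2 * M) hr.two_le (by omega) (by
    rintro ⟨rfl, h6⟩
    have : M = 3 := by omega
    exact h2 ⟨rfl, this ▸ Nat.prime_three⟩)
  have hl1 : l ∣ r ^ M + 1 := dvd_add_one_of_prim hl hr.two_le hM hlp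
  have hl0 : ¬ l ∣ 2 * ord * out := not_dvd_two_mul hl (by omega) (hZ l hl hlp)
  have hrM : 8 ≤ r ^ M := by
    calc 8 = 2 ^ 3 := by norm_num
      _ ≤ r ^ 3 := Nat.pow_le_pow_left hr.two_le 3
      _ ≤ r ^ M := Nat.pow_le_pow_right hr.pos hM
  rcases ds_cases hs with h | h | h | h | h | h
  · omega
  · exact ⟨by omega, fun h3 => hl0 (dvd_trans (by rw [← h]; exact hl1) h3.1)⟩
  · exfalso
    rcases succ_eq hr hM hp hF h with ⟨rfl, rfl⟩ | ⟨rfl, rfl⟩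
    · exact h2 ⟨rfl, Nat.prime_three⟩
    · rw [pow_one] at h
      exact hZ p hp (fermat_prim hM hp h) (dvd_mul_of_dvd_left hpo _)
  · exfalso
    obtain ⟨rfl, rfl⟩ := pred_eq hr hM hp hF h
    rw [pow_one] at h
    have h3 : 2 ^ M - 1 = p := by omega
    exact h2 ⟨rfl, prime_of_prime_two_pow_sub_one hM (h3 ▸ hp)⟩
  · refine ⟨by omega, fun h3 => ?_⟩
    rcases hP with ⟨M', hM', hd, h6, hZ'⟩ | hP
    · obtain ⟨l', hl', hlp', hlM'⟩ := exists_prim (r := r) (m := M') hr.two_le hM' h6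
      have h4 : l' ∣ r ^ M - 1 := (hlp' M).2 hd
      have h5' : p ^ F - 1 = 2 * (r ^ M - 1) := by omega
      exact not_dvd_two_mul hl' (by omega) (hZ' l' hl' hlp') (((h4.mul_left 2).trans (by rw [← h5'])).trans h3.2)
    · exact hP p F hp hF hpo h
  · refine ⟨by omega, fun h3 => ?_⟩
    have h4 : p ^ F + 1 = 2 * (r ^ M + 1) := by omega
    exact hl0 (((hl1.mul_left 2).trans (by rw [← h4])).trans h3.1)

/-- **Second criterion.** -/
theorem coreB {r M ord out : ℕ} (hr : r.Prime) (hM : 3 ≤ M) (h2 : ¬ (r = 2 ∧ M.Prime))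
    (h2' : ¬ (r = 2 ∧ (2 ^ M + 1).Prime)) (hout : 2 * out + 2 < r ^ M)
    (hZ : Zd r M (ord * out)) (h6 : r = 2 → M = 6 → ¬ 63 ∣ 2 * ord * out ∧ ¬ 127 ∣ ord)
    (hP : ∀ p F : ℕ, p.Prime → F ≠ 0 → p ∣ ord → 2 * r ^ M + 1 ≠ p ^ F) : NF (r ^ M) ord out := by
  intro p F hp h5 hs hpo
  have hF : F ≠ 0 := by
    rintro rfl
    simp at h5
  have hrM : 8 ≤ r ^ M := by
    calc 8 = 2 ^ 3 := by norm_num
      _ ≤ r ^ 3 := Nat.pow_le_pow_left hr.two_le 3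
      _ ≤ r ^ M := Nat.pow_le_pow_right hr.pos hM
  rcases ds_cases hs with h | h | h | h | h | h
  · omega
  · refine ⟨by omega, fun h3 => ?_⟩
    rw [← h] at h3
    by_cases hc : r = 2 ∧ M = 6
    · obtain ⟨rfl, rfl⟩ := hc
      exact (h6 rfl rfl).1 (by simpa using h3.2)
    · obtain ⟨l, hl, hlp, hlM⟩ := exists_prim (r := r) (m := M) hr.two_le hM hc
      exact not_dvd_two_mul hl (by omega) (hZ l hl hlp) (((hlp M).2 dvd_rfl).trans h3.2)
  · exfalso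
    rcases succ_eq hr hM hp hF h with ⟨rfl, rfl⟩ | ⟨rfl, rfl⟩
    · exact h2 ⟨rfl, Nat.prime_three⟩
    · rw [pow_one] at h
      exact h2' ⟨rfl, h ▸ hp⟩
  · exfalso
    obtain ⟨rfl, rfl⟩ := pred_eq hr hM hp hF h
    rw [pow_one] at h
    have h3 : 2 ^ M - 1 = p := by omega
    exact h2 ⟨rfl, prime_of_prime_two_pow_sub_one hM (h3 ▸ hp)⟩
  · refine ⟨by omega, fun h3 => ?_⟩
    by_cases hc : r = 2 ∧ M = 6
    · obtain ⟨rfl, rfl⟩ := hc
      have h4 : p ^ F = 127 := by omega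
      have h5' : p ∣ 127 := h4 ▸ dvd_pow_self p hF
      have h6' : p = 127 := (Nat.prime_dvd_prime_iff_eq hp (by norm_num)).1 h5'
      exact (h6 rfl rfl).2 (h6' ▸ hpo)
    · obtain ⟨l, hl, hlp, hlM⟩ := exists_prim (r := r) (m := M) hr.two_le hM hc
      have h5' : p ^ F - 1 = 2 * (r ^ M - 1) := by omega
      exact not_dvd_two_mul hl (by omega) (hZ l hl hlp)
        (((((hlp M).2 dvd_rfl).mul_left 2).trans (by rw [← h5'])).trans h3.2)
  · exact absurd h (hP p F hp hF hpo)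

/-! ### The prime divisors of the orders -/

/-- The prime divisors of `x` are at most `3`, at most `f`, divide `r`, some `r ^ c - 1` (`c ∈ Lp`) or some
`r ^ c + 1` (`c ∈ Lm`). -/
def PD (r f : ℕ) (Lp Lm : ℕ → Prop) (x : ℕ) : Prop :=
  ∀ l : ℕ, l.Prime → l ∣ x → l ≤ 3 ∨ l ≤ f ∨ l ∣ r ∨ (∃ c, Lp c ∧ l ∣ r ^ c - 1) ∨ (∃ c, Lm c ∧ l ∣ r ^ c + 1)

theorem PD.mul {r f : ℕ} {Lp Lm : ℕ → Prop} {x y : ℕ} (hx : PD r f Lp Lm x) (hy : PD r f Lp Lm y) :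
    PD r f Lp Lm (x * y) := by
  intro l hl h
  rcases hl.dvd_mul.1 h with h | h
  · exact hx l hl h
  · exact hy l hl h

theorem PD.of_dvd {r f : ℕ} {Lp Lm : ℕ → Prop} {x y : ℕ} (hx : PD r f Lp Lm x) (h : y ∣ x) : PD r f Lp Lm y :=
  fun l hl h' => hx l hl (h'.trans h)

theorem PD.pow {r f : ℕ} {Lp Lm : ℕ → Prop} {x : ℕ} (hx : PD r f Lp Lm x) (n : ℕ) : PD r f Lp Lm (x ^ n) :=
  fun l hl h => hx l hl (hl.dvd_of_dvd_pow h)

theorem PD.one {r f : ℕ} {Lp Lm : ℕ → Prop} : PD r f Lp Lm 1 :=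
  fun l hl h => absurd (Nat.dvd_one.1 h) hl.one_lt.ne'

theorem PD.base {r f : ℕ} {Lp Lm : ℕ → Prop} : PD r f Lp Lm r := fun _ _ h => Or.inr (Or.inr (Or.inl h))

theorem PD.plus {r f : ℕ} {Lp Lm : ℕ → Prop} {c : ℕ} (hc : Lp c) : PD r f Lp Lm (r ^ c - 1) :=
  fun _ _ h => Or.inr (Or.inr (Or.inr (Or.inl ⟨c, hc, h⟩)))

theorem PD.minus {r f : ℕ} {Lp Lm : ℕ → Prop} {c : ℕ} (hc : Lm c) : PD r f Lp Lm (r ^ c + 1) :=
  fun _ _ h => Or.inr (Or.inr (Or.inr (Or.inr ⟨c, hc, h⟩)))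

theorem PD.le_f {r f : ℕ} {Lp Lm : ℕ → Prop} {x : ℕ} (h0 : x ≠ 0) (hx : x ≤ f) : PD r f Lp Lm x :=
  fun _ _ h => Or.inr (Or.inl ((Nat.le_of_dvd (Nat.pos_of_ne_zero h0) h).trans hx))

theorem PD.two {r f : ℕ} {Lp Lm : ℕ → Prop} : PD r f Lp Lm 2 :=
  fun _ _ h => Or.inl ((Nat.le_of_dvd (by norm_num) h).trans (by norm_num))

theorem PD.three {r f : ℕ} {Lp Lm : ℕ → Prop} : PD r f Lp Lm 3 :=
  fun _ _ h => Or.inl (Nat.le_of_dvd (by norm_num) h)

theorem PD.prod {r f : ℕ} {Lp Lm : ℕ → Prop} {ι : Type*} (s : Finset ι) {g : ι → ℕ}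
    (h : ∀ i ∈ s, PD r f Lp Lm (g i)) : PD r f Lp Lm (∏ i ∈ s, g i) := by
  classical
  induction s using Finset.induction_on with
  | empty => rw [Finset.prod_empty]; exact PD.one
  | insert a s ha ih =>
    rw [Finset.prod_insert ha]
    exact (h a (Finset.mem_insert_self _ _)).mul (ih fun i hi => h i (Finset.mem_insert_of_mem hi))

/-- no primitive prime divisor, from `PD` -/
theorem zd_of_pd {r0 f K x : ℕ} {Lp Lm : ℕ → Prop} (hr0 : 1 ≤ r0) (hf : 1 ≤ f) (hK : 1 ≤ K) (hKf : 3 ≤ K * f)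
    (h : PD (r0 ^ f) f Lp Lm x) (hp : ∀ c, Lp c → ¬ K ∣ c) (hm : ∀ c, Lm c → ¬ (K ∣ 2 * c ∧ ¬ K ∣ c)) :
    Zd r0 (K * f) x := by
  intro l hl hlp hlx
  have hlM := lt_of_prim hl hlp hr0 (by omega)
  have hfK : f ≤ K * f := Nat.le_mul_of_pos_left f hK
  have hcan : ∀ c, K * f ∣ f * c ↔ K ∣ c := by
    intro c
    rw [mul_comm K f]
    exact Nat.mul_dvd_mul_iff_left (by omega)
  rcases h l hl hlx with h1 | h1 | h1 | ⟨c, hc, h1⟩ | ⟨c, hc, h1⟩
  · omega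
  · omega
  · have h2 : l ∣ r0 := hl.dvd_of_dvd_pow h1
    have h3 : l ∣ r0 ^ (K * f) - 1 := (hlp _).2 dvd_rfl
    have h4 : l ∣ r0 ^ (K * f) := dvd_pow h2 (by omega)
    have h5 : 1 ≤ r0 ^ (K * f) := Nat.one_le_pow _ _ hr0
    have h6 := Nat.dvd_sub h4 h3
    rw [show r0 ^ (K * f) - (r0 ^ (K * f) - 1) = 1 by omega] at h6
    exact hl.one_lt.ne' (Nat.dvd_one.1 h6)
  · rw [← pow_mul, hlp, hcan] at h1
    exact hp c hc h1
  · rw [← pow_mul] at h1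
    have h2 : l ∣ r0 ^ (f * c + f * c) - 1 := by
      have h3 : r0 ^ (f * c + f * c) - 1 = (r0 ^ (f * c) + 1) * (r0 ^ (f * c) - 1) := by
        rw [pow_add]
        have := Nat.sq_sub_sq (r0 ^ (f * c)) 1
        rw [one_pow, pow_two] at this
        exact this
      rw [h3]
      exact h1.mul_right _
    rw [hlp, ← two_mul, mul_left_comm, hcan] at h2
    refine hm c hc ⟨h2, fun h3 => ?_⟩
    have h4 : l ∣ r0 ^ (f * c) - 1 := (hlp _).2 ((hcan c).2 h3)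
    have h5 := Nat.dvd_sub h1 h4
    have h6 : 1 ≤ r0 ^ (f * c) := Nat.one_le_pow _ _ hr0
    rw [show r0 ^ (f * c) + 1 - (r0 ^ (f * c) - 1) = 2 by omega] at h5
    have := Nat.le_of_dvd (by norm_num) h5
    omega

end Cfsg.Agent.H691.Arith
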