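import Cfsg.Agent.H691.Defs
import Cfsg.Agent.H672.Over
import Cfsg.Agent.H681.DegBasic
import Cfsg.Agent.S2299
import Cfsg.Agent.S4812
import Cfsg.Agent.CharactersDeep.SmallDegree

/-!
# Degrees of `SL₂(q)` and of central products with abelian groups (helper691)
-/

set_option autoImplicit false

open scoped ComplexConjugate

namespace Cfsg.Agent.H691.Back

open Cfsg Cfsg.Agent.Characters.Core Cfsg.Agent.H681.DegBasic

/-- **The degrees of `SL₂(q)`, `q ≥ 5`.** -/
theorem cd_sl {F : Type*} [Field F] [Fintype F] (h5 : 5 ≤ Fintype.card F) :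
    charDegrees (Matrix.SpecialLinearGroup (Fin 2) F) = DS (Fintype.card F) := by
  classical
  ext n
  by_cases h2 : ringChar F = 2
  · have hc : CharP F 2 := h2 ▸ ringChar.charP F
    have hev : 2 ∣ Fintype.card F := by
      obtain ⟨m, hp, hm⟩ := FiniteField.card F 2
      rw [hm]
      exact dvd_pow_self 2 m.ne_zero
    rw [S4812.degrees F _ rfl (by omega)]
    constructor
    · rintro (h | h | h | h)
      · exact Or.inl h
      · exact Or.inr (Or.inr (Or.inl (by omega)))
      · exact Or.inr (Or.inl h)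
      · exact Or.inr (Or.inr (Or.inr (Or.inl h)))
    · rintro (h | h | h | h | h | h)
      · exact Or.inl h
      · exact Or.inr (Or.inr (Or.inl h))
      · exact Or.inr (Or.inl (by omega))
      · exact Or.inr (Or.inr (Or.inr h))
      · omega
      · omega
  · have hodd : Odd (Fintype.card F) := FiniteField.odd_card_of_char_ne_two h2 |> Nat.odd_iff.2
    obtain ⟨h1, h3⟩ := S2299.result (F := F) hodd
    obtain ⟨c1, c2, c3, c4, c5, c6⟩ := h3 h5
    have hex : ∀ m : ℕ, ∀ c : ℂ, Nat.card {χ : Cfsg.IrrCharacter (Matrix.SpecialLinearGroup (Fin 2) F) //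
        (χ : Matrix.SpecialLinearGroup (Fin 2) F → ℂ) 1 = c} ≠ 0 → c = m →
        m ∈ charDegrees (Matrix.SpecialLinearGroup (Fin 2) F) := by
      intro m c hc hcm
      obtain ⟨⟨χ, hχ⟩⟩ := (Nat.card_ne_zero.1 hc).1
      exact mem_charDegrees.2 ⟨χ, χ.2, hχ.trans hcm⟩
    obtain ⟨k, hk⟩ := hodd
    constructor
    · intro hn
      obtain ⟨χ, hχ, hχd⟩ := mem_charDegrees.1 hn
      rcases h1 χ hχ with h | h | h | h | h | h
      · exact Or.inl (by rw [hχd] at h; exact_mod_cast h)
      · exact Or.inr (Or.inl (by rw [hχd] at h; exact_mod_cast h))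
      · exact Or.inr (Or.inr (Or.inr (Or.inl (by rw [hχd] at h; exact_mod_cast h))))
      · refine Or.inr (Or.inr (Or.inl ?_))
        have h8 : ((n + 1 : ℕ) : ℂ) = (Fintype.card F : ℕ) := by
          push_cast
          rw [← hχd, h]; ring
        exact_mod_cast h8
      · have h8 : n = (Fintype.card F + 1) / 2 := by rw [hχd] at h; exact_mod_cast h
        exact Or.inr (Or.inr (Or.inr (Or.inr (Or.inl (by omega)))))
      · have h8 : n = (Fintype.card F - 1) / 2 := by rw [hχd] at h; exact_mod_cast h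
        exact Or.inr (Or.inr (Or.inr (Or.inr (Or.inr (by omega)))))
    · rintro (h | h | h | h | h | h)
      · exact hex _ _ (by rw [c1]; omega) (by rw [h]; simp)
      · exact hex _ _ (by rw [c2]; omega) (by rw [h])
      · refine hex _ _ (by rw [c4]; omega) ?_
        rw [← h]; push_cast; ring
      · refine hex _ _ (by rw [c3]; omega) ?_
        rw [h]; push_cast; ring
      · refine hex _ _ (by rw [c5]; omega) ?_
        congr 1
        omega
      · refine hex _ _ (by rw [c6]; omega) ?_
        congr 1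
        omega

/-- The restriction of an irreducible character to a subgroup `N` with `N Z(G) = G` (as in helper656's file). -/
theorem isIrr_restrict {G : Type*} [Group G] [Fintype G] (N : Subgroup G) (hN : N ⊔ Subgroup.center G = ⊤) {ζ : G → ℂ}
    (hζ : IsIrrCharacter G ζ) : IsIrrCharacter N (ζ ∘ N.subtype) := by
  classical
  have := Fintype.ofFinite N
  have hz : ∀ z ∈ Subgroup.center G, ∀ g, ζ (g * z) * conj (ζ (g * z)) = ζ g * conj (ζ g) := by
    intro z hz g
    obtain ⟨ω, hω, h⟩ := Cfsg.Agent.CharactersDeep.SmallDegree.exists_central_mul hζ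
      (fun g => Subgroup.mem_center_iff.1 hz g)
    rw [h, map_mul]
    have h1 : ω * conj ω = 1 := by rw [Complex.mul_conj, Complex.normSq_eq_norm_sq, hω]; norm_num
    linear_combination (ζ g * conj (ζ g)) * h1
  have hsum : ∀ g : G, ∑ a : N, ζ (g * a) * conj (ζ (g * a)) = ∑ a : N, ζ a * conj (ζ a) := by
    intro g
    have hg : g ∈ N ⊔ Subgroup.center G := by rw [hN]; trivial
    rw [Subgroup.mem_sup_of_normal_right] at hg
    obtain ⟨b, hb, z, hz', rfl⟩ := hg
    rw [← Equiv.sum_comp (Equiv.mulLeft (⟨b, hb⟩ : N)) (fun a : N => ζ a * conj (ζ a))]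
    refine Finset.sum_congr rfl fun a _ => ?_
    have h1 : b * z * (a : G) = b * a * z := by
      rw [mul_assoc, mul_assoc, Subgroup.mem_center_iff.1 hz' (a : G)]
    rw [h1, hz z hz']
    rfl
  have h1 : ∑ a : N, ∑ g : G, ζ (g * a) * conj (ζ (g * a)) =
      (Nat.card G : ℂ) * ∑ a : N, ζ a * conj (ζ a) := by
    rw [Finset.sum_comm, Finset.sum_congr rfl fun g _ => hsum g, Finset.sum_const,
      Finset.card_univ, nsmul_eq_mul, Nat.card_eq_fintype_card]
  have h2 : ∑ a : N, ∑ g : G, ζ (g * a) * conj (ζ (g * a)) =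
      (Nat.card N : ℂ) * ∑ g : G, ζ g * conj (ζ g) := by
    have h3 : ∀ a : N, ∑ g : G, ζ (g * a) * conj (ζ (g * a)) = ∑ g : G, ζ g * conj (ζ g) :=
      fun a => Equiv.sum_comp (Equiv.mulRight (a : G)) (fun g => ζ g * conj (ζ g))
    rw [Finset.sum_congr rfl fun a _ => h3 a, Finset.sum_const, Finset.card_univ, nsmul_eq_mul,
      Nat.card_eq_fintype_card]
  have h3 := classInner_irr_self hζ
  rw [classInner_def] at h3
  have hG : (Nat.card G : ℂ) ≠ 0 := by exact_mod_cast Nat.card_pos.ne'
  have hNc : (Nat.card N : ℂ) ≠ 0 := by exact_mod_cast Nat.card_pos.ne'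
  rw [isIrr_iff_classInner_self (isCharacter_comp N.subtype (isIrr_isCharacter hζ)),
    classInner_def]
  rw [h1] at h2
  have h4 : ∑ a : N, (ζ ∘ N.subtype) a * conj ((ζ ∘ N.subtype) a) =
      ∑ a : N, ζ a * conj (ζ a) := rfl
  rw [h4]
  have h5 : ∑ g : G, ζ g * conj (ζ g) = Nat.card G := by
    field_simp at h3
    exact h3
  rw [h5] at h2
  apply mul_left_cancel₀ hG
  rw [mul_one, ← mul_assoc, mul_comm (Nat.card G : ℂ), mul_assoc, h2, ← mul_assoc,
    inv_mul_cancel₀ hNc, one_mul]

/-- **Degrees of a central product with an abelian group.** -/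
theorem charDegrees_of_central {G : Type*} [Group G] [Finite G] (K A : Subgroup G) (hA : IsMulCommutative A)
    (hAK : A ≤ Subgroup.centralizer (K : Set G)) (h : K ⊔ A = ⊤) : charDegrees G = charDegrees K := by
  classical
  have := Fintype.ofFinite G
  have hcen : A ≤ Subgroup.center G := by
    intro a ha
    have h1 : K ⊔ A ≤ Subgroup.centralizer ({a} : Set G) := by
      refine sup_le ?_ ?_
      · intro k hk
        rw [Subgroup.mem_centralizer_singleton_iff]
        exact (Subgroup.mem_centralizer_iff.1 (hAK ha) k hk)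
      · intro b hb
        rw [Subgroup.mem_centralizer_singleton_iff]
        have := hA.is_comm.comm (⟨b, hb⟩ : A) ⟨a, ha⟩
        exact congrArg Subtype.val this
    rw [h] at h1
    rw [Subgroup.mem_center_iff]
    intro g
    have := h1 (Subgroup.mem_top g)
    rwa [Subgroup.mem_centralizer_singleton_iff] at this
  have hK : K ⊔ Subgroup.center G = ⊤ := by
    rw [eq_top_iff, ← h]
    exact sup_le_sup_left hcen K
  ext n
  constructor
  · intro hn
    obtain ⟨χ, hχ, hχn⟩ := mem_charDegrees.1 hn
    exact mem_charDegrees.2 ⟨χ ∘ K.subtype, isIrr_restrict K hK hχ, hχn⟩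
  · intro hn
    obtain ⟨θ, hθ, hθn⟩ := mem_charDegrees.1 hn
    obtain ⟨χ, hχ, hov⟩ := H672.exists_over_subtype K hθ
    have hirr := isIrr_restrict K hK hχ
    have heq : χ ∘ K.subtype = θ := by
      by_contra hne
      have := Fintype.ofFinite K
      have h1 : H672.Over K.subtype χ θ := hov
      rw [H672.over_iff] at h1
      exact h1 (classInner_irr_ne hirr hθ hne)
    refine mem_charDegrees.2 ⟨χ, hχ, ?_⟩
    rw [← hθn, ← heq]
    rfl

end Cfsg.Agent.H691.Back
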