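import Cfsg.Agent.H691.Arith

/-!
# `NF` for the families of Lie type (helper691)
-/

set_option autoImplicit false

namespace Cfsg.Agent.H691.Fam

open Cfsg.Agent.H691.Arith

theorem two_mul_le_pow {r0 f : ℕ} (hr0 : 2 ≤ r0) (hf : 1 ≤ f) : 2 * f ≤ r0 ^ f := by
  have h1 : ∀ n : ℕ, 2 * (n + 1) ≤ 2 ^ (n + 1) := by
    intro n
    induction n with
    | zero => norm_num
    | succ n ih => rw [pow_succ]; omega
  obtain ⟨n, rfl⟩ : ∃ n, f = n + 1 := ⟨f - 1, by omega⟩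
  exact (h1 n).trans (Nat.pow_le_pow_left hr0 _)

theorem bound {r A f s : ℕ} (h : 2 * f ≤ r) (hA : A * r + 2 < s) : 2 * (A * f) + 2 < s := by
  have h1 : A * (2 * f) ≤ A * r := Nat.mul_le_mul_left _ h
  have h2 : A * (2 * f) = 2 * (A * f) := by ring
  omega

/-- constants `A ≤ 6`, `N ≥ 4` -/
theorem bound4 {r A N : ℕ} (hr : 2 ≤ r) (hA : A ≤ 6) (hN : 4 ≤ N) : A * r + 2 < r ^ N := by
  have h1 : r ^ 4 ≤ r ^ N := Nat.pow_le_pow_right (by omega) hN
  have h2 : A * r ≤ 6 * r := Nat.mul_le_mul_right _ hA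
  have h3 : 8 * r ≤ r ^ 4 := by
    have h4 : 2 ^ 3 * r ≤ r ^ 3 * r := Nat.mul_le_mul_right _ (Nat.pow_le_pow_left hr 3)
    rw [← pow_succ] at h4
    omega
  omega

/-- constants `A ≤ 24`, `N ≥ 6` -/
theorem bound6 {r A N : ℕ} (hr : 2 ≤ r) (hA : A ≤ 24) (hN : 6 ≤ N) : A * r + 2 < r ^ N := by
  have h1 : r ^ 6 ≤ r ^ N := Nat.pow_le_pow_right (by omega) hN
  have h2 : A * r ≤ 24 * r := Nat.mul_le_mul_right _ hA
  have h3 : 32 * r ≤ r ^ 6 := by
    have h4 : 2 ^ 5 * r ≤ r ^ 5 * r := Nat.mul_le_mul_right _ (Nat.pow_le_pow_left hr 5)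
    rw [← pow_succ] at h4
    omega
  omega

/-- the first criterion with `PD`, case `K` -/
theorem nfK {r0 f N K ord out : ℕ} {Lp Lm : ℕ → Prop} (hr0 : r0.Prime) (hf : 1 ≤ f) (hN : 3 ≤ N * f)
    (h2 : ¬ (r0 = 2 ∧ (N * f).Prime)) (hout : 2 * out + 2 < (r0 ^ f) ^ N) (hpd : PD (r0 ^ f) f Lp Lm (ord * out))
    (hp2 : ∀ c, Lp c → ¬ 2 * N ∣ c) (hm2 : ∀ c, Lm c → ¬ (2 * N ∣ 2 * c ∧ ¬ 2 * N ∣ c))
    (hKN : K ∣ N) (hK3 : 3 ≤ K * f) (hK6 : ¬ (r0 = 2 ∧ K * f = 6))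
    (hp1 : ∀ c, Lp c → ¬ K ∣ c) (hm1 : ∀ c, Lm c → ¬ (K ∣ 2 * c ∧ ¬ K ∣ c)) : NF ((r0 ^ f) ^ N) ord out := by
  have hN1 : 1 ≤ N := by
    rcases Nat.eq_zero_or_pos N with h | h
    · rw [h] at hN; omega
    · exact h
  have hK1 : 1 ≤ K := by
    rcases Nat.eq_zero_or_pos K with h | h
    · rw [h] at hK3; omega
    · exact h
  have hpw : (r0 ^ f) ^ N = r0 ^ (N * f) := by rw [← pow_mul, mul_comm]
  rw [hpw] at hout ⊢
  refine coreA hr0 hN h2 hout ?_ (Or.inl ⟨K * f, hK3, Nat.mul_dvd_mul_right hKN f, hK6, ?_⟩)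
  · rw [← mul_assoc]
    exact zd_of_pd hr0.one_le hf (by omega) (by rw [mul_assoc]; omega) hpd hp2 hm2
  · exact zd_of_pd hr0.one_le hf hK1 hK3 hpd hp1 hm1

/-- the first criterion with `PD`, the other case -/
theorem nfP {r0 f N ord out : ℕ} {Lp Lm : ℕ → Prop} (hr0 : r0.Prime) (hf : 1 ≤ f) (hN : 3 ≤ N * f)
    (h2 : ¬ (r0 = 2 ∧ (N * f).Prime)) (hout : 2 * out + 2 < (r0 ^ f) ^ N) (hpd : PD (r0 ^ f) f Lp Lm (ord * out))
    (hp2 : ∀ c, Lp c → ¬ 2 * N ∣ c) (hm2 : ∀ c, Lm c → ¬ (2 * N ∣ 2 * c ∧ ¬ 2 * N ∣ c))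
    (hP : ∀ p F : ℕ, p.Prime → F ≠ 0 → p ∣ ord → 2 * (r0 ^ f) ^ N ≠ p ^ F + 1) : NF ((r0 ^ f) ^ N) ord out := by
  have hN1 : 1 ≤ N := by
    rcases Nat.eq_zero_or_pos N with h | h
    · rw [h] at hN; omega
    · exact h
  have hpw : (r0 ^ f) ^ N = r0 ^ (N * f) := by rw [← pow_mul, mul_comm]
  rw [hpw] at hout hP ⊢
  refine coreA hr0 hN h2 hout ?_ (Or.inr hP)
  rw [← mul_assoc]
  exact zd_of_pd hr0.one_le hf (by omega) (by rw [mul_assoc]; omega) hpd hp2 hm2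

theorem not_prime_mul {a b : ℕ} (ha : 2 ≤ a) (hb : 2 ≤ b) : ¬ (a * b).Prime :=
  Nat.not_prime_mul (by omega) (by omega)

/-- `N f` is not prime if `N` is composite -/
theorem not_prime_of {a b f : ℕ} (ha : 2 ≤ a) (hb : 2 ≤ b) (hf : 1 ≤ f) : ¬ (a * b * f).Prime := by
  rw [mul_assoc]
  exact not_prime_mul ha (Nat.mul_le_mul hb hf |>.trans' (by omega))

/-! ### the equation `2 r ^ N = p ^ F + 1` -/

/-- `p` does not divide `r` -/
theorem eqm_base {r N p F : ℕ} (hN : N ≠ 0) (hF : F ≠ 0) (hp : p.Prime) (h : 2 * r ^ N = p ^ F + 1) : ¬ p ∣ r := by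
  intro h0
  have h1 : p ∣ 2 * r ^ N := (h0.trans (dvd_pow_self r hN)).mul_left 2
  have h2 : p ∣ p ^ F := dvd_pow_self p hF
  rw [h] at h1
  exact hp.one_lt.ne' (Nat.dvd_one.1 ((Nat.dvd_add_right h2).1 h1))

/-- `p` does not divide `r ^ c - 1`, `c ∣ N` -/
theorem eqm_sub {r N c p F : ℕ} (hr : 1 ≤ r) (hcN : c ∣ N) (hF : F ≠ 0) (hp : p.Prime)
    (h : 2 * r ^ N = p ^ F + 1) : ¬ p ∣ r ^ c - 1 := by
  intro h0
  have h1 : r ^ c - 1 ∣ r ^ N - 1 := by
    obtain ⟨d, rfl⟩ := hcN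
    rw [pow_mul]
    have := Nat.sub_dvd_pow_sub_pow (r ^ c) 1 d
    rwa [one_pow] at this
  have h2 : p ∣ 2 * (r ^ N - 1) := (h0.trans h1).mul_left 2
  have h3 : 1 ≤ r ^ N := Nat.one_le_pow _ _ hr
  have h4 : p ∣ p ^ F := dvd_pow_self p hF
  have h5 : p ^ F = 2 * (r ^ N - 1) + 1 := by omega
  rw [h5] at h4
  exact hp.one_lt.ne' (Nat.dvd_one.1 ((Nat.dvd_add_right h2).1 h4))

theorem prime_dvd_list {p : ℕ} (hp : p.Prime) : ∀ {L : List ℕ}, p ∣ L.prod → ∃ x ∈ L, p ∣ x := fun h =>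
  (Prime.dvd_prod_iff hp.prime).1 h

/-! ### the linear groups -/

theorem pd_gl {r f n : ℕ} : PD r f (fun c => 1 ≤ c ∧ c ≤ n) (fun _ => False) (∏ i ∈ Finset.range n, (r ^ n - r ^ i)) := by
  apply PD.prod
  intro i hi
  rw [Finset.mem_range] at hi
  have h1 : r ^ n - r ^ i = r ^ i * (r ^ (n - i) - 1) := by
    rw [Nat.mul_sub, ← pow_add, mul_one]
    congr 2
    omega
  rw [h1]
  exact (PD.base.pow i).mul (PD.plus ⟨by omega, by omega⟩)

theorem psl_NF {r0 f n ord : ℕ} (hr0 : r0.Prime) (hf : 1 ≤ f) (hn : 3 ≤ n) (h32 : ¬ (n = 3 ∧ r0 ^ f = 2))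
    (hord : ord ∣ ∏ i ∈ Finset.range n, ((r0 ^ f) ^ n - (r0 ^ f) ^ i)) :
    NF ((r0 ^ f) ^ (n * (n - 1) / 2)) ord (2 * Nat.gcd n (r0 ^ f - 1) * f) := by
  set r := r0 ^ f with hr
  have hr2 : 2 ≤ r := hr0.two_le.trans (Nat.le_self_pow (by omega) _)
  have h2f : 2 * f ≤ r := two_mul_le_pow hr0.two_le hf
  have hg : Nat.gcd n (r - 1) ≤ r - 1 := Nat.le_of_dvd (by omega) (Nat.gcd_dvd_right _ _)
  have hpd : PD r f (fun c => 1 ≤ c ∧ c ≤ n) (fun _ => False) (ord * (2 * Nat.gcd n (r - 1) * f)) := by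
    refine (pd_gl.of_dvd hord).mul ((PD.two.mul ?_).mul (PD.le_f (by omega) le_rfl))
    refine (PD.plus (c := 1) ⟨le_rfl, by omega⟩).of_dvd ?_
    rw [pow_one]
    exact Nat.gcd_dvd_right _ _
  rcases hn.eq_or_lt with rfl | hn
  · -- `n = 3`
    have hN : 3 * (3 - 1) / 2 = 3 := by norm_num
    rw [hN]
    have hr3 : r0 = 2 → 2 ≤ f := by
      rintro rfl
      by_contra hcon
      have : f = 1 := by omega
      rw [this, pow_one] at hr
      exact h32 ⟨rfl, hr⟩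
    have hbd : 2 * (2 * Nat.gcd 3 (r - 1) * f) + 2 < r ^ 3 := by
      apply bound h2f
      have h1 : 2 * Nat.gcd 3 (r - 1) * r ≤ 2 * (r - 1) * r := Nat.mul_le_mul_right _ (Nat.mul_le_mul_left _ hg)
      obtain ⟨t, ht⟩ : ∃ t, r = t + 2 := ⟨r - 2, by omega⟩
      have h2 : 2 * (r - 1) * r + 2 < r ^ 3 := by
        rw [ht, show t + 2 - 1 = t + 1 by omega]
        nlinarith [Nat.zero_le t, Nat.zero_le (t ^ 2), Nat.zero_le (t ^ 3)]
      omega
    refine nfP hr0 hf (by omega) ?_ hbd hpd ?_ ?_ ?_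
    · rintro ⟨h1, h2⟩
      exact not_prime_mul (by norm_num) (hr3 h1) h2
    · rintro c ⟨h1, h2⟩ h3
      have := Nat.le_of_dvd (by omega) h3
      omega
    · exact fun _ h => h.elim
    · intro p F hp hF hpo h
      rw [← hr] at h
      have h1 := hpo.trans hord
      rw [Finset.prod_range_succ, Finset.prod_range_succ, Finset.prod_range_succ, Finset.prod_range_zero, one_mul,
        pow_zero, pow_one] at h1
      have hb := eqm_base (by norm_num) hF hp h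
      have hs3 := eqm_sub (c := 3) (by omega) dvd_rfl hF hp h
      have hs1 := eqm_sub (c := 1) (by omega) (by norm_num) hF hp h
      rw [pow_one] at hs1
      have e1 : r ^ 3 - r = r * ((r - 1) * (r + 1)) := by
        obtain ⟨t, ht⟩ : ∃ t, r = t + 1 := ⟨r - 1, by omega⟩
        rw [ht, show t + 1 - 1 = t by omega]
        have : (t + 1) ^ 3 = (t + 1) * (t * (t + 1 + 1)) + (t + 1) := by ring
        omega
      have e2 : r ^ 3 - r ^ 2 = r ^ 2 * (r - 1) := by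
        rw [Nat.mul_sub, ← pow_succ, mul_one]
      rw [e1, e2] at h1
      have hadd : p ∣ r + 1 := by
        rcases hp.dvd_mul.1 h1 with h2 | h2
        · rcases hp.dvd_mul.1 h2 with h3 | h3
          · exact absurd h3 hs3
          · rcases hp.dvd_mul.1 h3 with h4 | h4
            · exact absurd h4 hb
            · rcases hp.dvd_mul.1 h4 with h5 | h5
              · exact absurd h5 hs1
              · exact h5
        · rcases hp.dvd_mul.1 h2 with h3 | h3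
          · exact absurd (hp.dvd_of_dvd_pow h3) hb
          · exact absurd h3 hs1
      -- `p = 3`
      have h3p : p ∣ 3 := by
        have h4 : r ^ 3 + 1 = (r + 1) * (r ^ 2 - r + 1) := by
          have h5 : r ≤ r ^ 2 := by nlinarith
          zify [h5]
          ring
        have h5 : p ∣ 2 * (r ^ 3 + 1) := (hadd.mul_right _ |>.trans (by rw [← h4])).mul_left 2
        have h6 : 2 * (r ^ 3 + 1) = p ^ F + 3 := by omega
        rw [h6] at h5
        exact (Nat.dvd_add_right (dvd_pow_self p hF)).1 h5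
      have hp3 : p = 3 := (Nat.prime_dvd_prime_iff_eq hp Nat.prime_three).1 h3p
      subst hp3
      -- modulo nine
      obtain ⟨k, hk⟩ := hadd
      have h7 : (2 * r ^ 3) % 9 = 7 := by
        have h8 : r % 9 = 2 ∨ r % 9 = 5 ∨ r % 9 = 8 := by omega
        have h9 : r ^ 3 % 9 = 8 := by
          rw [Nat.pow_mod]
          rcases h8 with h8 | h8 | h8 <;> rw [h8]
        omega
      rcases F with _ | _ | F
      · omega
      · have : 2 ^ 3 ≤ r ^ 3 := Nat.pow_le_pow_left hr2 3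
        omega
      · have : 3 ^ (F + 1 + 1) = 9 * 3 ^ F := by rw [pow_succ, pow_succ]; ring
        omega
  · -- `n ≥ 4`
    obtain ⟨N, hN⟩ : ∃ N, N = n * (n - 1) / 2 := ⟨_, rfl⟩
    rw [← hN]
    have hN2 : 2 * N = n * (n - 1) := by
      rw [hN]
      exact Nat.mul_div_cancel' (by
        obtain ⟨k, rfl⟩ : ∃ k, n = k + 1 := ⟨n - 1, by omega⟩
        rw [Nat.add_sub_cancel, mul_comm]
        exact (Nat.even_mul_succ_self k).two_dvd)
    have hNn : n < N := by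
      have h1 : n * 3 ≤ n * (n - 1) := Nat.mul_le_mul_left _ (by omega)
      omega
    have hNc : ∃ a b, 2 ≤ a ∧ 2 ≤ b ∧ N = a * b := by
      rcases Nat.even_or_odd n with ⟨k, hk⟩ | ⟨k, hk⟩
      · refine ⟨k, n - 1, by omega, by omega, ?_⟩
        have : 2 * N = 2 * (k * (n - 1)) := by rw [hN2]; nth_rewrite 1 [hk]; ring
        omega
      · refine ⟨n, k, by omega, by omega, ?_⟩
        have h1 : n - 1 = 2 * k := by omega
        have : 2 * N = 2 * (n * k) := by rw [hN2, h1]; ring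
        omega
    have hnp : ¬ (N * f).Prime := by
      obtain ⟨a, b, ha, hb, h⟩ := hNc
      rw [h]
      exact not_prime_of ha hb hf
    have hbd : 2 * (2 * Nat.gcd n (r - 1) * f) + 2 < r ^ N := by
      apply bound h2f
      have h1 : 2 * Nat.gcd n (r - 1) * r ≤ 2 * (r - 1) * r := Nat.mul_le_mul_right _ (Nat.mul_le_mul_left _ hg)
      obtain ⟨t, ht⟩ : ∃ t, r = t + 2 := ⟨r - 2, by omega⟩
      have h2 : 2 * (r - 1) * r + 2 < r ^ 3 := by
        rw [ht, show t + 2 - 1 = t + 1 by omega]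
        nlinarith [Nat.zero_le t, Nat.zero_le (t ^ 2), Nat.zero_le (t ^ 3)]
      have h3 : r ^ 3 ≤ r ^ N := Nat.pow_le_pow_right (by omega) (by omega)
      omega
    have hp2 : ∀ c, (1 ≤ c ∧ c ≤ n) → ¬ 2 * N ∣ c := by
      rintro c ⟨h1, h2⟩ h3
      have := Nat.le_of_dvd (by omega) h3
      omega
    have hp1 : ∀ c, (1 ≤ c ∧ c ≤ n) → ¬ N ∣ c := by
      rintro c ⟨h1, h2⟩ h3
      have := Nat.le_of_dvd (by omega) h3
      omega
    have hN3 : 3 ≤ N * f := by nlinarith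
    by_cases h6 : r0 = 2 ∧ N * f = 6
    · -- the group `PSL(4, 2)`
      obtain ⟨h61, h62⟩ := h6
      have hf1 : f = 1 := by
        by_contra hcon
        have : N * 2 ≤ N * f := Nat.mul_le_mul_left _ (by omega)
        omega
      have hn4 : n = 4 := by
        by_contra hcon
        have h1 : n * 4 ≤ n * (n - 1) := Nat.mul_le_mul_left _ (by omega)
        rw [hf1] at h62
        omega
      have hN6 : N = 6 := by rw [hf1] at h62; omega
      refine nfP hr0 hf hN3 (fun h => hnp h.2) hbd hpd hp2 (fun _ h => h.elim) ?_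
      intro p F hp hF hpo h
      rw [← hr, hN6, hr, h61, hf1] at h
      have h4 : p ^ F = 127 := by omega
      have h5' : p ∣ 127 := h4 ▸ dvd_pow_self p hF
      have h6' : p = 127 := (Nat.prime_dvd_prime_iff_eq hp (by norm_num)).1 h5'
      have h7 := hpo.trans hord
      rw [hr, h61, hf1, hn4, h6'] at h7
      revert h7
      decide
    · exact nfK hr0 hf hN3 (fun h => hnp h.2) hbd hpd hp2 (fun _ h => h.elim) dvd_rfl hN3 h6 hp1 (fun _ h => h.elim)

end Cfsg.Agent.H691.Fam
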