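import Cfsg.Agent.H691.Fam

/-!
# `NF` for the other families of Lie type (helper691)
-/

set_option autoImplicit false

namespace Cfsg.Agent.H691.Fam

open Cfsg.Agent.H691.Arith

theorem PD.const {r f : ℕ} {Lp Lm : ℕ → Prop} {x : ℕ} (h : ∀ l : ℕ, l.Prime → l ∣ x → l ≤ 3) : PD r f Lp Lm x :=
  fun l hl hx => Or.inl (h l hl hx)

theorem le_three_of_dvd {l : ℕ} (hl : l.Prime) (a b : ℕ) (h : l ∣ 2 ^ a * 3 ^ b) : l ≤ 3 := by
  rcases hl.dvd_mul.1 h with h | h
  · exact (Nat.le_of_dvd (by norm_num) (hl.dvd_of_dvd_pow h)).trans (by norm_num)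
  · exact Nat.le_of_dvd (by norm_num) (hl.dvd_of_dvd_pow h)

theorem PD.c4 {r f : ℕ} {Lp Lm : ℕ → Prop} : PD r f Lp Lm 4 :=
  PD.const fun _ hl h => le_three_of_dvd hl 2 0 (by simpa using h)

theorem PD.c6 {r f : ℕ} {Lp Lm : ℕ → Prop} : PD r f Lp Lm 6 :=
  PD.const fun _ hl h => le_three_of_dvd hl 1 1 (by simpa using h)

theorem PD.c24 {r f : ℕ} {Lp Lm : ℕ → Prop} : PD r f Lp Lm 24 :=
  PD.const fun _ hl h => le_three_of_dvd hl 3 1 (by norm_num; exact h)

/-! ### symplectic groups and odd dimensional orthogonal groups -/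

theorem pd_prB {r f m : ℕ} : PD r f (fun c => 1 ≤ c ∧ c ≤ 2 * m) (fun _ => False)
    (∏ i ∈ Finset.range m, (r ^ (2 * (i + 1)) - 1)) := by
  apply PD.prod
  intro i hi
  rw [Finset.mem_range] at hi
  exact PD.plus ⟨by omega, by omega⟩

theorem psp_NF {r0 f m ord : ℕ} (hr0 : r0.Prime) (hf : 1 ≤ f) (hm : 2 ≤ m)
    (hord : ord ∣ (r0 ^ f) ^ (m ^ 2) * ∏ i ∈ Finset.range m, ((r0 ^ f) ^ (2 * (i + 1)) - 1)) :
    NF ((r0 ^ f) ^ (m ^ 2)) ord (4 * f) := by
  have hr2 : 2 ≤ r0 ^ f := hr0.two_le.trans (Nat.le_self_pow (by omega) _)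
  have h2f : 2 * f ≤ r0 ^ f := two_mul_le_pow hr0.two_le hf
  have hm4 : 2 * m ≤ m ^ 2 := by nlinarith
  have hpd : PD (r0 ^ f) f (fun c => 1 ≤ c ∧ c ≤ 2 * m) (fun _ => False) (ord * (4 * f)) :=
    (((PD.base.pow _).mul pd_prB).of_dvd hord).mul (PD.c4.mul (PD.le_f (by omega) le_rfl))
  have hbd : 2 * (4 * f) + 2 < (r0 ^ f) ^ (m ^ 2) := bound h2f (bound4 hr2 (by norm_num) (by omega))
  have hN3 : 3 ≤ m ^ 2 * f := by nlinarith
  have hnp : ¬ (m ^ 2 * f).Prime := by
    rw [pow_two]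
    exact not_prime_of hm hm hf
  have hp2 : ∀ c, (1 ≤ c ∧ c ≤ 2 * m) → ¬ 2 * m ^ 2 ∣ c := by
    rintro c ⟨h1, h2⟩ h3
    have := Nat.le_of_dvd (by omega) h3
    omega
  rcases hm.eq_or_lt with rfl | hm
  · refine nfP hr0 hf hN3 (fun h => hnp h.2) hbd hpd hp2 (fun _ h => h.elim) ?_
    intro p F hp hF hpo h
    have h1 := hpo.trans hord
    rw [Finset.prod_range_succ, Finset.prod_range_succ, Finset.prod_range_zero, one_mul] at h1
    rcases hp.dvd_mul.1 h1 with h2 | h2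
    · exact eqm_base (by norm_num) hF hp h (hp.dvd_of_dvd_pow h2)
    · rcases hp.dvd_mul.1 h2 with h3 | h3
      · exact eqm_sub (c := 2 * (0 + 1)) (by omega) (by norm_num) hF hp h h3
      · exact eqm_sub (c := 2 * (1 + 1)) (by omega) (by norm_num) hF hp h h3
  · have hp1 : ∀ c, (1 ≤ c ∧ c ≤ 2 * m) → ¬ m ^ 2 ∣ c := by
      rintro c ⟨h1, h2⟩ h3
      have := Nat.le_of_dvd (by omega) h3
      nlinarith
    refine nfK hr0 hf hN3 (fun h => hnp h.2) hbd hpd hp2 (fun _ h => h.elim) dvd_rfl hN3 ?_ hp1 (fun _ h => h.elim)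
    rintro ⟨-, h⟩
    nlinarith

/-! ### even dimensional orthogonal groups -/

theorem oplus_NF {r0 f m ord : ℕ} (hr0 : r0.Prime) (hf : 1 ≤ f) (hm : 4 ≤ m)
    (hord : ord ∣ (r0 ^ f) ^ (m * (m - 1)) * (((r0 ^ f) ^ m - 1) *
      ∏ i ∈ Finset.range (m - 1), ((r0 ^ f) ^ (2 * (i + 1)) - 1))) :
    NF ((r0 ^ f) ^ (m * (m - 1))) ord (24 * f) := by
  have hr2 : 2 ≤ r0 ^ f := hr0.two_le.trans (Nat.le_self_pow (by omega) _)
  have h2f : 2 * f ≤ r0 ^ f := two_mul_le_pow hr0.two_le hf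
  have hm4 : 3 * m ≤ m * (m - 1) := by
    rw [mul_comm 3]
    exact Nat.mul_le_mul_left _ (by omega)
  have hpd : PD (r0 ^ f) f (fun c => 1 ≤ c ∧ c ≤ 2 * m) (fun _ => False) (ord * (24 * f)) := by
    refine (((PD.base.pow _).mul ((PD.plus ⟨by omega, by omega⟩).mul ?_)).of_dvd hord).mul
      (PD.c24.mul (PD.le_f (by omega) le_rfl))
    apply PD.prod
    intro i hi
    rw [Finset.mem_range] at hi
    exact PD.plus ⟨by omega, by omega⟩
  have hbd : 2 * (24 * f) + 2 < (r0 ^ f) ^ (m * (m - 1)) := bound h2f (bound6 hr2 le_rfl (by omega))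
  have hN3 : 3 ≤ m * (m - 1) * f := by
    have : m * (m - 1) ≤ m * (m - 1) * f := Nat.le_mul_of_pos_right _ hf
    omega
  have hnp : ¬ (m * (m - 1) * f).Prime := not_prime_of (by omega) (by omega) hf
  have hp2 : ∀ c, (1 ≤ c ∧ c ≤ 2 * m) → ¬ 2 * (m * (m - 1)) ∣ c := by
    rintro c ⟨h1, h2⟩ h3
    have := Nat.le_of_dvd (by omega) h3
    omega
  have hp1 : ∀ c, (1 ≤ c ∧ c ≤ 2 * m) → ¬ m * (m - 1) ∣ c := by
    rintro c ⟨h1, h2⟩ h3
    have := Nat.le_of_dvd (by omega) h3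
    omega
  refine nfK hr0 hf hN3 (fun h => hnp h.2) hbd hpd hp2 (fun _ h => h.elim) dvd_rfl hN3 ?_ hp1 (fun _ h => h.elim)
  rintro ⟨-, h⟩
  have : m * (m - 1) ≤ m * (m - 1) * f := Nat.le_mul_of_pos_right _ hf
  omega

theorem ominus_NF {r0 f m ord : ℕ} (hr0 : r0.Prime) (hf : 1 ≤ f) (hm : 4 ≤ m)
    (hord : ord ∣ (r0 ^ f) ^ (m * (m - 1)) * (((r0 ^ f) ^ m + 1) *
      ∏ i ∈ Finset.range (m - 1), ((r0 ^ f) ^ (2 * (i + 1)) - 1))) :
    NF ((r0 ^ f) ^ (m * (m - 1))) ord (24 * f) := by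
  have hr2 : 2 ≤ r0 ^ f := hr0.two_le.trans (Nat.le_self_pow (by omega) _)
  have h2f : 2 * f ≤ r0 ^ f := two_mul_le_pow hr0.two_le hf
  have hm4 : 3 * m ≤ m * (m - 1) := by
    rw [mul_comm 3]
    exact Nat.mul_le_mul_left _ (by omega)
  have hpd : PD (r0 ^ f) f (fun c => 1 ≤ c ∧ c ≤ 2 * m) (fun c => c = m) (ord * (24 * f)) := by
    refine (((PD.base.pow _).mul ((PD.minus (Lm := fun c => c = m) (c := m) rfl).mul ?_)).of_dvd hord).mul
      (PD.c24.mul (PD.le_f (x := f) (by omega) le_rfl))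
    apply PD.prod
    intro i hi
    rw [Finset.mem_range] at hi
    exact PD.plus ⟨by omega, by omega⟩
  have hbd : 2 * (24 * f) + 2 < (r0 ^ f) ^ (m * (m - 1)) := bound h2f (bound6 hr2 le_rfl (by omega))
  have hN3 : 3 ≤ m * (m - 1) * f := by
    have : m * (m - 1) ≤ m * (m - 1) * f := Nat.le_mul_of_pos_right _ hf
    omega
  have hnp : ¬ (m * (m - 1) * f).Prime := not_prime_of (by omega) (by omega) hf
  have hp2 : ∀ c, (1 ≤ c ∧ c ≤ 2 * m) → ¬ 2 * (m * (m - 1)) ∣ c := by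
    rintro c ⟨h1, h2⟩ h3
    have := Nat.le_of_dvd (by omega) h3
    omega
  have hp1 : ∀ c, (1 ≤ c ∧ c ≤ 2 * m) → ¬ m * (m - 1) ∣ c := by
    rintro c ⟨h1, h2⟩ h3
    have := Nat.le_of_dvd (by omega) h3
    omega
  refine nfK hr0 hf hN3 (fun h => hnp h.2) hbd hpd hp2 ?_ dvd_rfl hN3 ?_ hp1 ?_
  · rintro c rfl ⟨h1, -⟩
    have := Nat.le_of_dvd (by omega) h1
    omega
  · rintro ⟨-, h⟩
    have : m * (m - 1) ≤ m * (m - 1) * f := Nat.le_mul_of_pos_right _ hf
    omega
  · rintro c rfl ⟨h1, -⟩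
    have := Nat.le_of_dvd (by omega) h1
    omega

/-! ### unitary groups -/

theorem pd_prU {r f n : ℕ} : PD r f (fun c => 1 ≤ c ∧ c ≤ n ∧ Even c) (fun c => 1 ≤ c ∧ c ≤ n ∧ Odd c)
    (∏ i ∈ Finset.range n, if Even i then r ^ (i + 1) + 1 else r ^ (i + 1) - 1) := by
  apply PD.prod
  intro i hi
  rw [Finset.mem_range] at hi
  split_ifs with h
  · exact PD.minus ⟨by omega, by omega, h.add_one⟩
  · exact PD.plus ⟨by omega, by omega, (Nat.not_even_iff_odd.1 h).add_one⟩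

theorem psu_bound {r n : ℕ} (hr : 2 ≤ r) (hn : 3 ≤ n) (h : ¬ (n = 3 ∧ r = 2)) :
    2 * (r + 1) * r + 2 < r ^ (n * (n - 1) / 2) := by
  rcases hn.eq_or_lt with rfl | hn
  · have h3 : 3 ≤ r := by
      by_contra hcon
      exact h ⟨rfl, by omega⟩
    obtain ⟨t, rfl⟩ : ∃ t, r = t + 3 := ⟨r - 3, by omega⟩
    norm_num
    nlinarith [Nat.zero_le t, Nat.zero_le (t ^ 2), Nat.zero_le (t ^ 3)]
  · have h6 : 6 ≤ n * (n - 1) / 2 := by
      have : n * 3 ≤ n * (n - 1) := Nat.mul_le_mul_left _ (by omega)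
      omega
    have h1 : r ^ 6 ≤ r ^ (n * (n - 1) / 2) := Nat.pow_le_pow_right (by omega) h6
    have h2 : r ^ 2 * 2 ^ 4 ≤ r ^ 2 * r ^ 4 := Nat.mul_le_mul_left _ (Nat.pow_le_pow_left hr 4)
    have h3 : r ^ 2 * r ^ 4 = r ^ 6 := by ring
    nlinarith

theorem psu_NF {r0 f n ord : ℕ} (hr0 : r0.Prime) (hf : 1 ≤ f) (hn : 3 ≤ n) (h32 : ¬ (n = 3 ∧ r0 ^ f = 2))
    (hord : ord ∣ (r0 ^ f) ^ (n * (n - 1) / 2) *
      ∏ i ∈ Finset.range n, if Even i then (r0 ^ f) ^ (i + 1) + 1 else (r0 ^ f) ^ (i + 1) - 1) :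
    NF ((r0 ^ f) ^ (n * (n - 1) / 2)) ord (2 * Nat.gcd n (r0 ^ f + 1) * f) := by
  have hr2 : 2 ≤ r0 ^ f := hr0.two_le.trans (Nat.le_self_pow (by omega) _)
  have h2f : 2 * f ≤ r0 ^ f := two_mul_le_pow hr0.two_le hf
  have hg : Nat.gcd n (r0 ^ f + 1) ≤ r0 ^ f + 1 := Nat.le_of_dvd (by omega) (Nat.gcd_dvd_right _ _)
  have hpd : PD (r0 ^ f) f (fun c => 1 ≤ c ∧ c ≤ n ∧ Even c) (fun c => 1 ≤ c ∧ c ≤ n ∧ Odd c)
      (ord * (2 * Nat.gcd n (r0 ^ f + 1) * f)) := by
    refine (((PD.base.pow _).mul pd_prU).of_dvd hord).mul ((PD.two.mul ?_).mul (PD.le_f (by omega) le_rfl))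
    refine (PD.minus (c := 1) ⟨le_rfl, by omega, odd_one⟩).of_dvd ?_
    rw [pow_one]
    exact Nat.gcd_dvd_right _ _
  have hbd : 2 * (2 * Nat.gcd n (r0 ^ f + 1) * f) + 2 < (r0 ^ f) ^ (n * (n - 1) / 2) := by
    apply bound h2f
    have h1 : 2 * Nat.gcd n (r0 ^ f + 1) * r0 ^ f ≤ 2 * (r0 ^ f + 1) * r0 ^ f :=
      Nat.mul_le_mul_right _ (Nat.mul_le_mul_left _ hg)
    exact lt_of_le_of_lt (by omega) (psu_bound hr2 hn h32)
  obtain ⟨N, hN⟩ : ∃ N, N = n * (n - 1) / 2 := ⟨_, rfl⟩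
  have hN2 : 2 * N = n * (n - 1) := by
    rw [hN]
    exact Nat.mul_div_cancel' (by
      obtain ⟨k, rfl⟩ : ∃ k, n = k + 1 := ⟨n - 1, by omega⟩
      rw [Nat.add_sub_cancel, mul_comm]
      exact (Nat.even_mul_succ_self k).two_dvd)
  rw [← hN] at hord hbd ⊢
  rcases hn.eq_or_lt with h3 | hn
  · -- `n = 3`
    subst h3
    have hN3 : N = 3 := by omega
    rw [hN3] at hord hbd ⊢
    have hf2 : r0 = 2 → 2 ≤ f := by
      rintro rfl
      by_contra hcon
      have : f = 1 := by omega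
      rw [this, pow_one] at h32
      exact h32 ⟨rfl, rfl⟩
    have hpw : (r0 ^ f) ^ 3 = r0 ^ (3 * f) := by rw [← pow_mul, mul_comm]
    rw [hpw] at hbd ⊢
    refine coreB hr0 (by omega) ?_ ?_ hbd ?_ ?_ ?_
    · rintro ⟨h1, h2⟩
      exact not_prime_mul (by norm_num) (hf2 h1) h2
    · rintro ⟨rfl, h2⟩
      have h4 : 2 ^ f + 1 ∣ 2 ^ (3 * f) + 1 := by
        rw [mul_comm, pow_mul]
        have := Odd.nat_add_dvd_pow_add_pow (2 ^ f) 1 (n := 3) (by decide)
        simpa using this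
      rcases (Nat.dvd_prime h2).1 h4 with h5 | h5
      · omega
      · have : 2 ^ f < 2 ^ (3 * f) := Nat.pow_lt_pow_right (by norm_num) (by omega)
        omega
    · refine zd_of_pd hr0.one_le hf (by norm_num) (by omega) hpd ?_ ?_
      · rintro c ⟨h1, h2, h4⟩ h5
        have : c = 3 := le_antisymm h2 (Nat.le_of_dvd (by omega) h5)
        rw [this] at h4
        exact absurd h4 (by decide)
      · rintro c ⟨h1, h2, h4⟩ ⟨h5, h6⟩
        apply h6
        exact (Nat.Coprime.dvd_mul_left (by norm_num)).1 h5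
    · intro h2 h6
      have hf2 : f = 2 := by omega
      rw [h2, hf2] at hord ⊢
      have h7 : ord ∣ 2 ^ 6 * (5 * 15 * 65) := by
        refine hord.trans ?_
        decide
      constructor
      · intro h8
        have h9 : (7 : ℕ) ∣ 2 * (2 ^ 6 * (5 * 15 * 65)) * (2 * Nat.gcd 3 (2 ^ 2 + 1) * 2) :=
          ((show 7 ∣ 63 by norm_num).trans h8).trans (Nat.mul_dvd_mul (Nat.mul_dvd_mul_left _ h7) dvd_rfl)
        revert h9
        decide
      · intro h8
        have := h8.trans h7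
        revert this
        decide
    · intro p F hp hF hpo h
      rw [← hpw] at h
      -- `2 r ^ 3 + 1 = p ^ F`
      have h1 := hpo.trans hord
      rw [Finset.prod_range_succ, Finset.prod_range_succ, Finset.prod_range_succ, Finset.prod_range_zero, one_mul] at h1
      set r := r0 ^ f with hr
      have hpF : p ∣ p ^ F := dvd_pow_self p hF
      have key : p ∣ r - 1 ∨ p ∣ r ^ 3 + 1 ∨ p ∣ r := by
        have e1 : (if Even 0 then r ^ (0 + 1) + 1 else r ^ (0 + 1) - 1) = r + 1 := by simp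
        have e2 : (if Even 1 then r ^ (1 + 1) + 1 else r ^ (1 + 1) - 1) = (r - 1) * (r + 1) := by
          rw [if_neg (by decide), mul_comm]
          have := Nat.sq_sub_sq r 1
          rw [one_pow] at this
          exact this
        have e3 : (if Even 2 then r ^ (2 + 1) + 1 else r ^ (2 + 1) - 1) = r ^ 3 + 1 := by rw [if_pos (by decide)]
        rw [e1, e2, e3] at h1
        have hadd : p ∣ r + 1 → p ∣ r ^ 3 + 1 := by
          intro h2
          have := Odd.nat_add_dvd_pow_add_pow r 1 (n := 3) (by decide)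
          rw [one_pow] at this
          exact h2.trans this
        rcases hp.dvd_mul.1 h1 with h2 | h2
        · exact Or.inr (Or.inr (hp.dvd_of_dvd_pow h2))
        · rcases hp.dvd_mul.1 h2 with h3 | h3
          · rcases hp.dvd_mul.1 h3 with h4 | h4
            · exact Or.inr (Or.inl (hadd h4))
            · rcases hp.dvd_mul.1 h4 with h5 | h5
              · exact Or.inl h5
              · exact Or.inr (Or.inl (hadd h5))
          · exact Or.inr (Or.inl h3)
      rcases key with h2 | h2 | h2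
      · -- `r ≡ 1`
        have h3 : r - 1 ∣ r ^ 3 - 1 := by
          have := Nat.sub_dvd_pow_sub_pow r 1 3
          rwa [one_pow] at this
        have h4 : p ∣ 2 * (r ^ 3 - 1) := (h2.trans h3).mul_left 2
        have h5 : 1 ≤ r ^ 3 := Nat.one_le_pow _ _ (by omega)
        rw [← h, show 2 * r ^ 3 + 1 = 2 * (r ^ 3 - 1) + 3 by omega] at hpF
        have h6 : p = 3 := (Nat.prime_dvd_prime_iff_eq hp Nat.prime_three).1 ((Nat.dvd_add_right h4).1 hpF)
        subst h6
        obtain ⟨k, hk⟩ := h2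
        have h7 : (2 * r ^ 3) % 9 = 2 := by
          have h8 : r % 9 = 1 ∨ r % 9 = 4 ∨ r % 9 = 7 := by omega
          have h9 : r ^ 3 % 9 = 1 := by
            rw [Nat.pow_mod]
            rcases h8 with h8 | h8 | h8 <;> rw [h8]
          omega
        rcases F with _ | _ | F
        · omega
        · have : 2 ^ 3 ≤ r ^ 3 := Nat.pow_le_pow_left hr2 3
          omega
        · have : 3 ^ (F + 1 + 1) = 9 * 3 ^ F := by rw [pow_succ, pow_succ]; ring
          omega
      · have h4 : p ∣ 2 * (r ^ 3 + 1) := h2.mul_left 2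
        rw [show 2 * (r ^ 3 + 1) = (2 * r ^ 3 + 1) + 1 by ring, h] at h4
        exact hp.one_lt.ne' (Nat.dvd_one.1 ((Nat.dvd_add_right hpF).1 h4))
      · have h4 : p ∣ 2 * r ^ 3 := (h2.trans (dvd_pow_self r (by norm_num))).mul_left 2
        rw [← h] at hpF
        exact hp.one_lt.ne' (Nat.dvd_one.1 ((Nat.dvd_add_right h4).1 hpF))
  · -- `n ≥ 4`
    have hNn : n < N := by
      have h1 : n * 3 ≤ n * (n - 1) := Nat.mul_le_mul_left _ (by omega)
      omega
    have hNc : ∃ a b, 2 ≤ a ∧ 2 ≤ b ∧ N = a * b := by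
      rcases Nat.even_or_odd n with ⟨k, hk⟩ | ⟨k, hk⟩
      · refine ⟨k, n - 1, by omega, by omega, ?_⟩
        have : 2 * N = 2 * (k * (n - 1)) := by rw [hN2]; nth_rewrite 1 [hk]; ring
        omega
      · refine ⟨n, k, by omega, by omega, ?_⟩
        have h1 : n - 1 = 2 * k := by omega
        have : 2 * N = 2 * (n * k) := by rw [hN2, h1]; ring
        omega
    have hnp : ¬ (N * f).Prime := by
      obtain ⟨a, b, ha, hb, h⟩ := hNc
      rw [h]
      exact not_prime_of ha hb hf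
    have hN3 : 3 ≤ N * f := by nlinarith
    have hp2 : ∀ c, (1 ≤ c ∧ c ≤ n ∧ Even c) → ¬ 2 * N ∣ c := by
      rintro c ⟨h1, h2, -⟩ h3
      have := Nat.le_of_dvd (by omega) h3
      omega
    have hm2 : ∀ c, (1 ≤ c ∧ c ≤ n ∧ Odd c) → ¬ (2 * N ∣ 2 * c ∧ ¬ 2 * N ∣ c) := by
      rintro c ⟨h1, h2, -⟩ ⟨h3, -⟩
      have := Nat.le_of_dvd (by omega) h3
      omega
    rcases Nat.lt_or_ge n 6 with h6 | h6
    · have h45 : n = 4 ∨ n = 5 := by omega
      rcases h45 with rfl | rfl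
      · -- `n = 4`
        have hN6 : N = 6 := by omega
        subst hN6
        refine nfP hr0 hf hN3 (fun h => hnp h.2) hbd hpd hp2 hm2 ?_
        intro p F hp hF hpo h
        have h1 := hpo.trans hord
        rw [Finset.prod_range_succ, Finset.prod_range_succ, Finset.prod_range_succ, Finset.prod_range_succ,
          Finset.prod_range_zero, one_mul] at h1
        set r := r0 ^ f with hr
        have hpF : p ∣ p ^ F := dvd_pow_self p hF
        have hb := eqm_base (by norm_num) hF hp h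
        have hs6 := eqm_sub (c := 6) (by omega) dvd_rfl hF hp h
        have h36 : r ^ 6 - 1 = (r ^ 3 + 1) * (r ^ 3 - 1) := by
          have := Nat.sq_sub_sq (r ^ 3) 1
          rw [one_pow, ← pow_mul] at this
          exact this
        have hadd3 : ¬ p ∣ r ^ 3 + 1 := fun h2 => hs6 (by rw [h36]; exact h2.mul_right _)
        have hadd : ¬ p ∣ r + 1 := by
          intro h2
          have := Odd.nat_add_dvd_pow_add_pow r 1 (n := 3) (by decide)
          rw [one_pow] at this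
          exact hadd3 (h2.trans this)
        have hs2 := eqm_sub (c := 2) (by omega) (by norm_num) hF hp h
        have e1 : (if Even 0 then r ^ (0 + 1) + 1 else r ^ (0 + 1) - 1) = r + 1 := by simp
        have e2 : (if Even 1 then r ^ (1 + 1) + 1 else r ^ (1 + 1) - 1) = r ^ 2 - 1 := by rw [if_neg (by decide)]
        have e3 : (if Even 2 then r ^ (2 + 1) + 1 else r ^ (2 + 1) - 1) = r ^ 3 + 1 := by rw [if_pos (by decide)]
        have e4 : (if Even 3 then r ^ (3 + 1) + 1 else r ^ (3 + 1) - 1) = (r ^ 2 + 1) * (r ^ 2 - 1) := by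
          rw [if_neg (by decide)]
          have := Nat.sq_sub_sq (r ^ 2) 1
          rw [one_pow, ← pow_mul] at this
          exact this
        rw [e1, e2, e3, e4] at h1
        have h5 : p ∣ r ^ 2 + 1 := by
          rcases hp.dvd_mul.1 h1 with h2 | h2
          · exact absurd (hp.dvd_of_dvd_pow h2) hb
          · rcases hp.dvd_mul.1 h2 with h3 | h3
            · rcases hp.dvd_mul.1 h3 with h4 | h4
              · rcases hp.dvd_mul.1 h4 with h5 | h5
                · exact absurd h5 hadd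
                · exact absurd h5 hs2
              · exact absurd h4 hadd3
            · rcases hp.dvd_mul.1 h3 with h4 | h4
              · exact h4
              · exact absurd h4 hs2
        -- `p = 3`
        have h7 : r ^ 2 + 1 ∣ r ^ 6 + 1 := by
          have := Odd.nat_add_dvd_pow_add_pow (r ^ 2) 1 (n := 3) (by decide)
          rwa [one_pow, show (r ^ 2) ^ 3 = r ^ 6 by ring] at this
        have h8 : p ∣ 2 * (r ^ 6 + 1) := (h5.trans h7).mul_left 2
        rw [show 2 * (r ^ 6 + 1) = 2 * r ^ 6 + 2 by ring, h, add_assoc] at h8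
        have h9 : p = 3 := (Nat.prime_dvd_prime_iff_eq hp Nat.prime_three).1 ((Nat.dvd_add_right hpF).1 h8)
        subst h9
        have h10 : r ^ 2 % 3 = 0 ∨ r ^ 2 % 3 = 1 := by
          have : r % 3 = 0 ∨ r % 3 = 1 ∨ r % 3 = 2 := by omega
          rw [Nat.pow_mod]
          rcases this with h | h | h <;> rw [h] <;> norm_num
        omega
      · -- `n = 5`
        have hN10 : N = 10 := by omega
        subst hN10
        refine nfK (K := 5) hr0 hf hN3 (fun h => hnp h.2) hbd hpd hp2 hm2 (by norm_num) (by omega)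
          (fun h => by omega) ?_ ?_
        · rintro c ⟨h1, h2, h3⟩ h4
          have : c = 5 := le_antisymm h2 (Nat.le_of_dvd (by omega) h4)
          rw [this] at h3
          exact absurd h3 (by decide)
        · rintro c ⟨h1, h2, h3⟩ ⟨h4, h5⟩
          exact h5 ((Nat.Coprime.dvd_mul_left (by norm_num)).1 h4)
    · -- `n ≥ 6`
      have hNn : 2 * n < N := by
        have h1 : n * 5 ≤ n * (n - 1) := Nat.mul_le_mul_left _ (by omega)
        omega
      refine nfK hr0 hf hN3 (fun h => hnp h.2) hbd hpd hp2 hm2 dvd_rfl hN3 ?_ ?_ ?_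
      · rintro ⟨-, h⟩
        have : N ≤ N * f := Nat.le_mul_of_pos_right _ hf
        omega
      · rintro c ⟨h1, h2, -⟩ h3
        have := Nat.le_of_dvd (by omega) h3
        omega
      · rintro c ⟨h1, h2, -⟩ ⟨h3, -⟩
        have := Nat.le_of_dvd (by omega) h3
        omega

end Cfsg.Agent.H691.Fam
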