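import Cfsg.Agent.H691.Fam2

/-!
# `NF` for the exceptional families of Lie type (helper691)
-/

set_option autoImplicit false

namespace Cfsg.Agent.H691.Fam

open Cfsg.Agent.H691.Arith

/-- exceptional families, generic case: `N ≥ 24` composite -/
theorem exc_NF {r0 f N ord a b num : ℕ} {Lp Lm : List ℕ} (hr0 : r0.Prime) (hf : 1 ≤ f) (hN : 24 ≤ N)
    (hab : N = a * b) (ha : 2 ≤ a) (hb : 2 ≤ b)
    (hpd : PD (r0 ^ f) f (fun c => c ∈ Lp) (fun c => c ∈ Lm) num) (hord : ord ∣ num)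
    (hLp : ∀ c ∈ Lp, ¬ N ∣ c) (hLm : ∀ c ∈ Lm, ¬ N ∣ 2 * c) : NF ((r0 ^ f) ^ N) ord (6 * f) := by
  have hr2 : 2 ≤ r0 ^ f := hr0.two_le.trans (Nat.le_self_pow (by omega) _)
  have h2f : 2 * f ≤ r0 ^ f := two_mul_le_pow hr0.two_le hf
  have hNf : N ≤ N * f := Nat.le_mul_of_pos_right _ hf
  refine nfK (K := N) hr0 hf (by omega) (fun h => ?_) (bound h2f (bound6 hr2 (by norm_num) (by omega)))
    ((hpd.of_dvd hord).mul (PD.c6.mul (PD.le_f (x := f) (by omega) le_rfl))) ?_ ?_ dvd_rfl (by omega) (by omega) hLp ?_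
  · rw [hab] at h
    exact not_prime_of ha hb hf h.2
  · exact fun c hc h => hLp c hc ((Dvd.intro_left 2 rfl).trans h)
  · exact fun c hc h => hLm c hc ((Dvd.intro_left 2 rfl).trans h.1)
  · exact fun c hc h => hLm c hc h.1

/-- exceptional families, the case of a group whose `r'`-primes divide `r ^ N - 1` -/
theorem exc_NF' {r0 f N ord a b num : ℕ} {Lp Lm : List ℕ} (hr0 : r0.Prime) (hf : 1 ≤ f) (hN : 6 ≤ N)
    (hab : N = a * b) (ha : 2 ≤ a) (hb : 2 ≤ b)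
    (hpd : PD (r0 ^ f) f (fun c => c ∈ Lp) (fun c => c ∈ Lm) num) (hord : ord ∣ num)
    (hprim : ∀ l : ℕ, l.Prime → l ∣ num → l ∣ r0 ^ f ∨ l ∣ (r0 ^ f) ^ N - 1)
    (hLp : ∀ c ∈ Lp, ¬ 2 * N ∣ c) (hLm : ∀ c ∈ Lm, ¬ N ∣ c) : NF ((r0 ^ f) ^ N) ord (6 * f) := by
  have hr2 : 2 ≤ r0 ^ f := hr0.two_le.trans (Nat.le_self_pow (by omega) _)
  have h2f : 2 * f ≤ r0 ^ f := two_mul_le_pow hr0.two_le hf
  have hNf : N ≤ N * f := Nat.le_mul_of_pos_right _ hf
  refine nfP hr0 hf (by omega) (fun h => ?_) (bound h2f (bound4 hr2 (by norm_num) (by omega)))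
    ((hpd.of_dvd hord).mul (PD.c6.mul (PD.le_f (x := f) (by omega) le_rfl))) ?_ ?_ ?_
  · rw [hab] at h
    exact not_prime_of ha hb hf h.2
  · exact hLp
  · exact fun c hc h => hLm c hc ((Nat.mul_dvd_mul_iff_left (by norm_num)).1 h.1)
  · intro p F hp hF hpo h
    rcases hprim p hp (hpo.trans hord) with h1 | h1
    · exact eqm_base (by omega) hF hp h h1
    · exact eqm_sub (c := N) (by omega) dvd_rfl hF hp h h1

theorem sq_sub {x k : ℕ} (j : ℕ) (h : j = k * 2) : x ^ j - 1 = (x ^ k + 1) * (x ^ k - 1) := by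
  have := Nat.sq_sub_sq (x ^ k) 1
  rw [one_pow, ← pow_mul] at this
  rw [h]
  exact this

theorem sub_dvd {x a b : ℕ} (h : a ∣ b) : x ^ a - 1 ∣ x ^ b - 1 := by
  obtain ⟨c, rfl⟩ := h
  have := Nat.sub_dvd_pow_sub_pow (x ^ a) 1 c
  rwa [one_pow, ← pow_mul] at this

theorem add_dvd {x a b : ℕ} (h : a * 2 ∣ b) : x ^ a + 1 ∣ x ^ b - 1 := by
  refine dvd_trans ?_ (sub_dvd h)
  rw [sq_sub (k := a) (a * 2) rfl]
  exact Dvd.intro _ rfl

section

variable {r0 f ord : ℕ} (hr0 : r0.Prime) (hf : 1 ≤ f)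

include hr0 hf

theorem f4_NF (hord : ord ∣ (r0 ^ f) ^ 24 * ((r0 ^ f) ^ 2 - 1) * ((r0 ^ f) ^ 6 - 1) * ((r0 ^ f) ^ 8 - 1) *
    ((r0 ^ f) ^ 12 - 1)) : NF ((r0 ^ f) ^ 24) ord (6 * f) := by
  refine exc_NF (Lp := [2, 6, 8, 12]) (Lm := []) (a := 4) (b := 6) hr0 hf le_rfl (by norm_num) (by norm_num) (by norm_num)
    ?_ hord (by decide) (by decide)
  repeat' with_reducible apply PD.mul
  · exact PD.base.pow _
  all_goals exact PD.plus (by decide)

theorem e6_NF (hord : ord ∣ (r0 ^ f) ^ 36 * ((r0 ^ f) ^ 2 - 1) * ((r0 ^ f) ^ 5 - 1) * ((r0 ^ f) ^ 6 - 1) *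
    ((r0 ^ f) ^ 8 - 1) * ((r0 ^ f) ^ 9 - 1) * ((r0 ^ f) ^ 12 - 1)) : NF ((r0 ^ f) ^ 36) ord (6 * f) := by
  refine exc_NF (Lp := [2, 5, 6, 8, 9, 12]) (Lm := []) (a := 6) (b := 6) hr0 hf (by norm_num) (by norm_num)
    (by norm_num) (by norm_num) ?_ hord (by decide) (by decide)
  repeat' with_reducible apply PD.mul
  · exact PD.base.pow _
  all_goals exact PD.plus (by decide)

theorem e7_NF (hord : ord ∣ (r0 ^ f) ^ 63 * ((r0 ^ f) ^ 2 - 1) * ((r0 ^ f) ^ 6 - 1) * ((r0 ^ f) ^ 8 - 1) *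
    ((r0 ^ f) ^ 10 - 1) * ((r0 ^ f) ^ 12 - 1) * ((r0 ^ f) ^ 14 - 1) * ((r0 ^ f) ^ 18 - 1)) :
    NF ((r0 ^ f) ^ 63) ord (6 * f) := by
  refine exc_NF (Lp := [2, 6, 8, 10, 12, 14, 18]) (Lm := []) (a := 7) (b := 9) hr0 hf (by norm_num) (by norm_num)
    (by norm_num) (by norm_num) ?_ hord (by decide) (by decide)
  repeat' with_reducible apply PD.mul
  · exact PD.base.pow _
  all_goals exact PD.plus (by decide)

theorem e8_NF (hord : ord ∣ (r0 ^ f) ^ 120 * ((r0 ^ f) ^ 2 - 1) * ((r0 ^ f) ^ 8 - 1) * ((r0 ^ f) ^ 12 - 1) *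
    ((r0 ^ f) ^ 14 - 1) * ((r0 ^ f) ^ 18 - 1) * ((r0 ^ f) ^ 20 - 1) * ((r0 ^ f) ^ 24 - 1) * ((r0 ^ f) ^ 30 - 1)) :
    NF ((r0 ^ f) ^ 120) ord (6 * f) := by
  refine exc_NF (Lp := [2, 8, 12, 14, 18, 20, 24, 30]) (Lm := []) (a := 10) (b := 12) hr0 hf (by norm_num)
    (by norm_num) (by norm_num) (by norm_num) ?_ hord (by decide) (by decide)
  repeat' with_reducible apply PD.mul
  · exact PD.base.pow _
  all_goals exact PD.plus (by decide)

theorem te6_NF (hord : ord ∣ (r0 ^ f) ^ 36 * ((r0 ^ f) ^ 2 - 1) * ((r0 ^ f) ^ 5 + 1) * ((r0 ^ f) ^ 6 - 1) *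
    ((r0 ^ f) ^ 8 - 1) * ((r0 ^ f) ^ 9 + 1) * ((r0 ^ f) ^ 12 - 1)) : NF ((r0 ^ f) ^ 36) ord (6 * f) := by
  refine exc_NF (Lp := [2, 6, 8, 12]) (Lm := [5, 9]) (a := 6) (b := 6) hr0 hf (by norm_num) (by norm_num)
    (by norm_num) (by norm_num) ?_ hord (by decide) (by decide)
  repeat' with_reducible apply PD.mul
  · exact PD.base.pow _
  · exact PD.plus (by decide)
  · exact PD.minus (by decide)
  · exact PD.plus (by decide)
  · exact PD.plus (by decide)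
  · exact PD.minus (by decide)
  · exact PD.plus (by decide)

theorem g2_NF (hord : ord ∣ (r0 ^ f) ^ 6 * ((r0 ^ f) ^ 2 - 1) * ((r0 ^ f) ^ 6 - 1)) :
    NF ((r0 ^ f) ^ 6) ord (6 * f) := by
  refine exc_NF' (Lp := [2, 6]) (Lm := []) (a := 2) (b := 3) hr0 hf le_rfl (by norm_num) (by norm_num) (by norm_num)
    ?_ hord ?_ (by decide) (by decide)
  · repeat' with_reducible apply PD.mul
    · exact PD.base.pow _
    all_goals exact PD.plus (by decide)
  · intro l hl h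
    rcases hl.dvd_mul.1 h with h | h
    · rcases hl.dvd_mul.1 h with h | h
      · exact Or.inl (hl.dvd_of_dvd_pow h)
      · exact Or.inr (h.trans (sub_dvd (by norm_num)))
    · exact Or.inr h

theorem td4_NF (hord : ord ∣ (r0 ^ f) ^ 12 * ((r0 ^ f) ^ 2 - 1) * ((r0 ^ f) ^ 6 - 1) *
    ((r0 ^ f) ^ 8 + (r0 ^ f) ^ 4 + 1)) : NF ((r0 ^ f) ^ 12) ord (6 * f) := by
  have h12 : (r0 ^ f) ^ 8 + (r0 ^ f) ^ 4 + 1 ∣ (r0 ^ f) ^ 12 - 1 := by
    refine ⟨(r0 ^ f) ^ 4 - 1, ?_⟩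
    generalize r0 ^ f = r
    have hr : 1 ≤ r ^ 4 ∨ r ^ 4 = 0 := by omega
    rcases hr with h | h
    · obtain ⟨t, ht⟩ : ∃ t, r ^ 4 = t + 1 := ⟨r ^ 4 - 1, by omega⟩
      have h8 : r ^ 8 = (t + 1) ^ 2 := by rw [← ht]; ring
      have h12 : r ^ 12 = (t + 1) ^ 3 := by rw [← ht]; ring
      rw [h8, h12, ht, Nat.add_sub_cancel]
      have : (t + 1) ^ 3 = ((t + 1) ^ 2 + (t + 1) + 1) * t + 1 := by ring
      omega
    · have h0 : r = 0 := by simpa using h
      subst h0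
      norm_num
  refine exc_NF' (Lp := [2, 6, 12]) (Lm := []) (a := 3) (b := 4) hr0 hf (by norm_num) (by norm_num) (by norm_num)
    (by norm_num) ?_ hord ?_ (by decide) (by decide)
  · repeat' with_reducible apply PD.mul
    · exact PD.base.pow _
    · exact PD.plus (by decide)
    · exact PD.plus (by decide)
    · exact (PD.plus (c := 12) (by decide)).of_dvd h12
  · intro l hl h
    rcases hl.dvd_mul.1 h with h | h
    · rcases hl.dvd_mul.1 h with h | h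
      · rcases hl.dvd_mul.1 h with h | h
        · exact Or.inl (hl.dvd_of_dvd_pow h)
        · exact Or.inr (h.trans (sub_dvd (by norm_num)))
      · exact Or.inr (h.trans (sub_dvd (by norm_num)))
    · exact Or.inr (h.trans h12)

theorem tf4_NF (hord : ord ∣ (r0 ^ f) ^ 12 * (r0 ^ f - 1) * ((r0 ^ f) ^ 3 + 1) * ((r0 ^ f) ^ 4 - 1) *
    ((r0 ^ f) ^ 6 + 1)) : NF ((r0 ^ f) ^ 12) ord (6 * f) := by
  refine exc_NF' (Lp := [1, 4]) (Lm := [3, 6]) (a := 3) (b := 4) hr0 hf (by norm_num) (by norm_num) (by norm_num)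
    (by norm_num) ?_ hord ?_ (by decide) (by decide)
  · repeat' with_reducible apply PD.mul
    · exact PD.base.pow _
    · have := PD.plus (r := r0 ^ f) (f := f) (Lp := fun c => c ∈ [1, 4]) (Lm := fun c => c ∈ [3, 6]) (c := 1)
        (by decide)
      rwa [pow_one] at this
    · exact PD.minus (by decide)
    · exact PD.plus (by decide)
    · exact PD.minus (by decide)
  · intro l hl h
    rcases hl.dvd_mul.1 h with h | h
    · rcases hl.dvd_mul.1 h with h | h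
      · rcases hl.dvd_mul.1 h with h | h
        · rcases hl.dvd_mul.1 h with h | h
          · exact Or.inl (hl.dvd_of_dvd_pow h)
          · have h1 : (r0 ^ f) ^ 1 - 1 ∣ (r0 ^ f) ^ 12 - 1 := sub_dvd (by norm_num)
            rw [pow_one] at h1
            exact Or.inr (h.trans h1)
        · exact Or.inr (h.trans (add_dvd (by norm_num)))
      · exact Or.inr (h.trans (sub_dvd (by norm_num)))
    · exact Or.inr (h.trans (add_dvd (by norm_num)))

end

/-! ### the Suzuki and small Ree groups -/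

theorem sz_NF {m ord : ℕ} (hm : 1 ≤ m)
    (hord : ord ∣ (2 ^ (2 * m + 1)) ^ 2 * (2 ^ (2 * m + 1) - 1) * ((2 ^ (2 * m + 1)) ^ 2 + 1)) :
    NF ((2 ^ (2 * m + 1)) ^ 2) ord (2 * m + 1) := by
  obtain ⟨f, hf⟩ : ∃ f, f = 2 * m + 1 := ⟨_, rfl⟩
  rw [← hf] at hord ⊢
  have hf3 : 3 ≤ f := by omega
  have hr2 : 8 ≤ 2 ^ f := by
    calc 8 = 2 ^ 3 := by norm_num
      _ ≤ 2 ^ f := Nat.pow_le_pow_right (by norm_num) hf3
  have h2f : 2 * f ≤ 2 ^ f := two_mul_le_pow le_rfl (by omega)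
  have hpw : (2 ^ f) ^ 2 = 2 ^ (2 * f) := by rw [← pow_mul, mul_comm]
  have hbd : 2 * f + 2 < (2 ^ f) ^ 2 := by nlinarith
  have hpd : PD (2 ^ f) f (fun c => c ∈ [1]) (fun c => c ∈ [2]) (ord * f) := by
    refine PD.mul (PD.of_dvd ?_ hord) (PD.le_f (by omega) le_rfl)
    repeat' with_reducible apply PD.mul
    · exact PD.base.pow _
    · have := PD.plus (r := 2 ^ f) (f := f) (Lp := fun c => c ∈ [1]) (Lm := fun c => c ∈ [2]) (c := 1)
        (by decide)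
      rwa [pow_one] at this
    · exact PD.minus (by decide)
  rw [hpw] at hbd ⊢
  refine coreB Nat.prime_two (by omega) (fun h => not_prime_mul le_rfl (by omega) h.2) ?_ hbd ?_ ?_ ?_
  · rintro ⟨-, h⟩
    have h4 : 2 ^ 2 + 1 ∣ 2 ^ (2 * f) + 1 := by
      rw [pow_mul]
      have h5 : Odd f := ⟨m, hf⟩
      have := Odd.nat_add_dvd_pow_add_pow (2 ^ 2) 1 h5
      simpa using this
    rcases (Nat.dvd_prime h).1 h4 with h5 | h5
    · omega
    · have : 2 ^ 2 < 2 ^ (2 * f) := Nat.pow_lt_pow_right (by norm_num) (by omega)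
      omega
  · exact zd_of_pd (by norm_num) (by omega) (by norm_num) (by omega) hpd (by decide) (by decide)
  · intro _ h6
    have hf3 : f = 3 := by omega
    rw [hf3] at hord ⊢
    constructor
    · intro h8
      have h9 : (9 : ℕ) ∣ 2 * ((2 ^ 3) ^ 2 * (2 ^ 3 - 1) * ((2 ^ 3) ^ 2 + 1)) * 3 :=
        ((show 9 ∣ 63 by norm_num).trans h8).trans (Nat.mul_dvd_mul (Nat.mul_dvd_mul_left _ hord) dvd_rfl)
      revert h9
      decide
    · intro h8
      have := h8.trans hord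
      revert this
      decide
  · intro p F hp hF hpo h
    -- `2 * 4 ^ f + 1` is divisible by three, not by nine; the order is not divisible by three
    have h1 := hpo.trans hord
    have h3 : ∀ k : ℕ, (2 ^ 2) ^ k % 3 = 1 := by
      intro k
      rw [Nat.pow_mod]
      simp
    have h4 : 3 ∣ p ^ F := by
      rw [← h, pow_mul]
      have := h3 f
      omega
    have hp3 : p = 3 := ((Nat.prime_dvd_prime_iff_eq Nat.prime_three hp).1 (Nat.prime_three.dvd_of_dvd_pow h4)).symm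
    subst hp3
    rw [hpw, pow_mul] at h1
    have h5 := h3 f
    have h6 : 2 ^ f % 3 = 2 := by
      rw [hf, pow_succ, pow_mul, Nat.mul_mod, h3 m]
    rcases (Nat.prime_three.dvd_mul.1 h1) with h7 | h7
    · rcases (Nat.prime_three.dvd_mul.1 h7) with h8 | h8
      · omega
      · omega
    · omega

theorem ree_NF {m ord : ℕ} (hm : 1 ≤ m)
    (hord : ord ∣ (3 ^ (2 * m + 1)) ^ 3 * (3 ^ (2 * m + 1) - 1) * ((3 ^ (2 * m + 1)) ^ 3 + 1)) :
    NF ((3 ^ (2 * m + 1)) ^ 3) ord (2 * m + 1) := by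
  obtain ⟨f, hf⟩ : ∃ f, f = 2 * m + 1 := ⟨_, rfl⟩
  rw [← hf] at hord ⊢
  have hf3 : 3 ≤ f := by omega
  have h2f : 2 * f ≤ 3 ^ f := two_mul_le_pow (by norm_num) (by omega)
  have hpw : (3 ^ f) ^ 3 = 3 ^ (3 * f) := by rw [← pow_mul, mul_comm]
  have hbd : 2 * f + 2 < (3 ^ f) ^ 3 := by nlinarith [sq_nonneg (3 ^ f), Nat.zero_le ((3 ^ f) ^ 2)]
  have hpd : PD (3 ^ f) f (fun c => c ∈ [1]) (fun c => c ∈ [3]) (ord * f) := by
    refine PD.mul (PD.of_dvd ?_ hord) (PD.le_f (by omega) le_rfl)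
    repeat' with_reducible apply PD.mul
    · exact PD.base.pow _
    · have := PD.plus (r := 3 ^ f) (f := f) (Lp := fun c => c ∈ [1]) (Lm := fun c => c ∈ [3]) (c := 1)
        (by decide)
      rwa [pow_one] at this
    · exact PD.minus (by decide)
  rw [hpw] at hbd ⊢
  refine coreB Nat.prime_three (by omega) (by omega) (by omega) hbd ?_ (by omega) ?_
  · exact zd_of_pd (by norm_num) (by omega) (by norm_num) (by omega) hpd (by decide) (by decide)
  · intro p F hp hF hpo h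
    -- the primes dividing the order divide `3 (r - 1) (r ^ 3 + 1)`
    have h1 := hpo.trans hord
    rw [← hpw] at h
    generalize hr : 3 ^ f = r at h h1
    have hr27 : 3 ∣ r := by rw [← hr]; exact dvd_pow_self 3 (by omega)
    have hpF : p ∣ p ^ F := dvd_pow_self p hF
    have hp3 : p ≠ 3 := by
      rintro rfl
      rw [← h] at hpF
      have h4 : 3 ∣ 2 * r ^ 3 := (hr27.trans (dvd_pow_self r (by norm_num))).mul_left 2
      exact Nat.prime_three.one_lt.ne' (Nat.dvd_one.1 ((Nat.dvd_add_right h4).1 hpF))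
    rcases (hp.dvd_mul.1 h1) with h7 | h7
    · rcases (hp.dvd_mul.1 h7) with h8 | h8
      · have h9 : p ∣ 3 ^ f := hr ▸ hp.dvd_of_dvd_pow h8
        exact hp3 ((Nat.prime_dvd_prime_iff_eq hp Nat.prime_three).1 (hp.dvd_of_dvd_pow h9))
      · have h3 : r - 1 ∣ r ^ 3 - 1 := by
          have := Nat.sub_dvd_pow_sub_pow r 1 3
          rwa [one_pow] at this
        have h4 : p ∣ 2 * (r ^ 3 - 1) := (h8.trans h3).mul_left 2
        have h5 : 1 ≤ r ^ 3 := Nat.one_le_pow _ _ (by rw [← hr]; positivity)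
        rw [← h, show 2 * r ^ 3 + 1 = 2 * (r ^ 3 - 1) + 3 by omega] at hpF
        exact hp3 ((Nat.prime_dvd_prime_iff_eq hp Nat.prime_three).1 ((Nat.dvd_add_right h4).1 hpF))
    · have h4 : p ∣ 2 * (r ^ 3 + 1) := h7.mul_left 2
      rw [show 2 * (r ^ 3 + 1) = (2 * r ^ 3 + 1) + 1 by ring, h] at h4
      exact hp.one_lt.ne' (Nat.dvd_one.1 ((Nat.dvd_add_right hpF).1 h4))

end Cfsg.Agent.H691.Fam
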