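import Cfsg.Agent.H691.KOneBase
import Cfsg.Agent.Characters.SchurBound

/-!
# The simple factor is unique (helper691)

`top_of_ext` : if the degrees of `G` are in `DS q` and the irreducible character `α` of the normal subgroup `N`, with
nonabelian simple `N / ker α`, lies under a character of the normaliser of `ker α` of degree `≤ c α(1)`, `α(1) > 4 c`,
then `ker α` is normal in `G`.
-/

set_option autoImplicit false

open scoped ComplexConjugate

namespace Cfsg.Agent.H691.KOne

open Cfsg Cfsg.Agent.Characters Cfsg.Agent.Characters.Core Cfsg.Agent.H681.DegBasic Cfsg.Agent.H686.CharKit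

universe u

theorem numeric {k b c q : ℕ} (hk : 2 ≤ k) (hb : 4 * c + 1 ≤ b) (h5 : 5 ≤ q) (h1 : k * b ^ 2 ≤ 2 * (q + 1))
    (h2 : q ≤ 2 * (k * (c * b)) + 1) : False := by
  have hc : c ≠ 0 := by
    rintro rfl
    simp at h2
    omega
  have hb5 : 5 ≤ b := by omega
  have h3 : k * b ^ 2 ≤ 4 * (k * (c * b)) + 4 := by omega
  have h4 : k * b * (4 * c + 1) ≤ k * b * b := Nat.mul_le_mul_left _ hb
  have h5 : k * b * (4 * c + 1) = 4 * (k * (c * b)) + k * b := by ring
  have h6 : k * b * b = k * b ^ 2 := by ring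
  have h7 : 2 * 5 ≤ k * b := Nat.mul_le_mul hk hb5
  omega

variable {G : Type u} [Group G] [Finite G] (N : Subgroup G) [hN : N.Normal]

/-- The conjugate of an irreducible character of a normal subgroup. -/
def cj (g : G) (α : IrrCharacter N) : IrrCharacter N :=
  ⟨(α : N → ℂ) ∘ (MulAut.conjNormal g : MulAut N), Clifford.isIrr_conjNormal α.2 g⟩

omit [Finite G] in
theorem cj_apply (g : G) (α : IrrCharacter N) (n : N) :
    (cj N g α : N → ℂ) n = (α : N → ℂ) ((MulAut.conjNormal g : MulAut N) n) := rfl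

theorem mem_ker_cj {g : G} {α : IrrCharacter N} {n : N} :
    n ∈ chKer (cj N g α) ↔ (MulAut.conjNormal g : MulAut N) n ∈ chKer α := by
  rw [mem_chKer, mem_chKer, cj_apply, cj_apply, map_one]

theorem ker_cj (g : G) (α : IrrCharacter N) :
    chKer (cj N g α) = (chKer α).comap (MulAut.conjNormal g : MulAut N).toMonoidHom := by
  ext n
  rw [mem_ker_cj, Subgroup.mem_comap]
  rfl

/-- The normaliser of the kernel of a character. -/
def TT (α : IrrCharacter N) : Subgroup G where
  carrier := {g | ∀ n : N, (MulAut.conjNormal g : MulAut N) n ∈ chKer α ↔ n ∈ chKer α}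
  one_mem' := by
    intro n
    rw [map_one]
    rfl
  mul_mem' := by
    intro a b ha hb n
    rw [map_mul, MulAut.mul_apply, ha, hb]
  inv_mem' := by
    intro a ha n
    rw [← ha, ← MulAut.mul_apply, ← map_mul, mul_inv_cancel, map_one]
    rfl

theorem mem_TT {α : IrrCharacter N} {g : G} : g ∈ TT N α ↔ chKer (cj N g α) = chKer α := by
  constructor
  · intro h
    ext n
    rw [mem_ker_cj, h n]
  · intro h n
    rw [← mem_ker_cj, h]

theorem le_TT (α : IrrCharacter N) : N ≤ TT N α := by
  intro g hg n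
  have hn := chKer_normal α
  have h1 : (MulAut.conjNormal g : MulAut N) n = (⟨g, hg⟩ : N) * n * (⟨g, hg⟩ : N)⁻¹ := by
    apply Subtype.ext
    rw [MulAut.conjNormal_apply]
    rfl
  rw [h1]
  constructor
  · intro h
    have := hn.conj_mem _ h (⟨g, hg⟩ : N)⁻¹
    simpa [mul_assoc] using this
  · exact fun h => hn.conj_mem _ h _

omit [Finite G] in
theorem norm_eq_of_mul {a b A B : ℝ} (ha : 0 ≤ a) (haA : a ≤ A) (hbB : b ≤ B) (hB : 0 < B)
    (h : a * b = A * B) : a = A := by
  by_contra hne
  have h1 : a < A := lt_of_le_of_ne haA hne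
  have h2 : a * b ≤ a * B := mul_le_mul_of_nonneg_left hbB ha
  have h3 : a * B < A * B := mul_lt_mul_of_pos_right h1 hB
  linarith

/-- **The simple factor is unique.** -/
theorem top_of_ext {q : ℕ} (h5 : 5 ≤ q) (hD : charDegrees G ⊆ DS q) (α : IrrCharacter N)
    (hs : IsSimpleGroup (N ⧸ chKer α)) (hna : ¬ IsMulCommutative (N ⧸ chKer α))
    {χT : TT N α → ℂ} (hχT : IsIrrCharacter (TT N α) χT)
    (hov : H672.Over (Subgroup.inclusion (le_TT N α)) χT α) {c : ℕ}
    (hc : charDegree χT ≤ c * charDegree (α : N → ℂ)) (hb : 4 * c + 1 ≤ charDegree (α : N → ℂ)) : TT N α = ⊤ := by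
  classical
  have := Fintype.ofFinite G
  have := Fintype.ofFinite N
  by_contra hne
  obtain ⟨g, hg⟩ : ∃ g, g ∉ TT N α := by
    by_contra hcon
    push Not at hcon
    exact hne (eq_top_iff.2 fun x _ => hcon x)
  set b := charDegree (α : N → ℂ) with hbdef
  have hα1 : (α : N → ℂ) 1 = b := (charDegree_irr α).symm
  have hb0 : 0 < b := charDegree_pos α
  -- a character of `G` over `χT`
  obtain ⟨χ, hχ, hoχ⟩ := H672.exists_over_subtype (TT N α) hχT
  have hle : charDegree χ ≤ (TT N α).index * charDegree χT := by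
    have := Fintype.ofFinite (TT N α)
    exact H621.SymDeg.degree_le_index_mul (TT N α) hχ hχT ((H672.over_subtype_iff _ χ χT).1 hoχ)
      (H672.coe_charDegree hχ).symm (H672.coe_charDegree hχT).symm
  have hαχ : H672.Over N.subtype χ (α : N → ℂ) := by
    have h1 : H672.Over ((TT N α).subtype.comp (Subgroup.inclusion (le_TT N α))) χ (α : N → ℂ) :=
      (H672.over_comp_iff _ _ (isIrr_isCharacter hχ) α.2).2 ⟨χT, hχT, hoχ, hov⟩
    exact h1
  have hbχ : b ≤ charDegree χ := H672.charDegree_le_of_over hχ α.2 hαχ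
  have h2 : q ≤ 2 * ((TT N α).index * (c * b)) + 1 := by
    have h3 : charDegree χ ≤ (TT N α).index * (c * b) := hle.trans (Nat.mul_le_mul_left _ hc)
    have h4 : b ≤ c * b := hbdef ▸ ((H672.charDegree_le_of_over hχT α.2 hov).trans hc)
    have hcpos : c ≠ 0 := by
      rintro rfl
      omega
    rcases hD (⟨⟨χ, hχ⟩, rfl⟩ : charDegree χ ∈ charDegrees G) with h | h | h | h | h | h <;> omega
  -- the other kernel
  set R := chKer α with hRdef
  set α₂ := cj N g α with hα₂
  have hR : MN R := MN.of_simple R hs hna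
  have hR₂ : MN (chKer α₂) := by
    rw [hα₂, ker_cj]
    exact hR.comap _
  have hRne : R ≠ chKer α₂ := fun h => hg ((mem_TT N).2 h.symm)
  have hsup := hR.sup_eq_top hR₂ hRne
  have hα₂R : IsIrrCharacter R ((α₂ : N → ℂ) ∘ R.subtype) :=
    isIrr_restrict_of_ker R (chKer α₂) hsup α₂.2 (fun z hz => hz)
  have hβ : IsIrrCharacter N ((α : N → ℂ) * (α₂ : N → ℂ)) := irr_mul R α₂.2 hα₂R α.2 (fun l hl => hl)
  set β : N → ℂ := (α : N → ℂ) * (α₂ : N → ℂ) with hβdef
  have hα₂1 : (α₂ : N → ℂ) 1 = b := by rw [hα₂, cj_apply, map_one, hα1]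
  have hβ1 : charDegree β = b ^ 2 := by
    apply H672.charDegree_of_eq
    rw [hβdef, Pi.mul_apply, hα1, hα₂1]
    push_cast
    ring
  set J := H672.inertia N β with hJdef
  have hJ : ∀ x ∈ J, x ∈ TT N α ∨ chKer (cj N x α) = chKer α₂ := by
    intro x hx
    have h3 : MN (chKer (cj N x α)) := by
      rw [ker_cj]
      exact hR.comap _
    have h4 : R ⊓ chKer α₂ ≤ chKer (cj N x α) := by
      rintro n ⟨hn1, hn2⟩
      rw [mem_ker_cj]
      set m := (MulAut.conjNormal x : MulAut N) n with hm
      have h6 : β m = β n := congrFun ((H672.mem_inertia (N := N) (θ := β)).1 hx) n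
      have h7 : β n = (b : ℂ) * b := by
        rw [hβdef, Pi.mul_apply]
        have e1 : (α : N → ℂ) n = (α : N → ℂ) 1 := hn1
        have e2 : (α₂ : N → ℂ) n = (α₂ : N → ℂ) 1 := hn2
        rw [e1, e2, hα1, hα₂1]
      rw [h7, hβdef, Pi.mul_apply] at h6
      have h8 : ‖(α : N → ℂ) m‖ * ‖(α₂ : N → ℂ) m‖ = (b : ℝ) * b := by
        rw [← norm_mul, h6, norm_mul, Complex.norm_natCast]
      apply mem_of_norm hs hna
      rw [hα1, Complex.norm_natCast]
      have hbr : (0 : ℝ) < b := by exact_mod_cast hb0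
      exact norm_eq_of_mul (norm_nonneg _) (SchurBound.norm_le (isIrr_isCharacter α.2) hα1 m)
        (SchurBound.norm_le (isIrr_isCharacter α₂.2) hα₂1 m) hbr h8
    rcases h3.key hR hR₂ h4 with h6 | h6
    · exact Or.inl ((mem_TT N).2 h6)
    · exact Or.inr h6
  -- the index of `J`
  have hrel : (TT N α).relIndex J ≤ 2 := by
    by_cases hJT : J ≤ TT N α
    · rw [Subgroup.relIndex_eq_one.2 hJT]
      norm_num
    · obtain ⟨a, haJ, haT⟩ := Set.not_subset.1 hJT
      have h3 : ((TT N α).subgroupOf J).index = 2 := by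
        rw [Subgroup.index_eq_two_iff]
        refine ⟨⟨a, haJ⟩, fun y => ?_⟩
        rw [Subgroup.mem_subgroupOf, Subgroup.mem_subgroupOf]
        by_cases hy : (y : G) ∈ TT N α
        · refine Or.inr ⟨hy, fun h4 => haT ?_⟩
          have h5 := (TT N α).mul_mem ((TT N α).inv_mem hy) h4
          simpa using h5
        · refine Or.inl ⟨?_, hy⟩
          have hai : (a⁻¹ : G) ∉ TT N α := fun h => haT (by simpa using (TT N α).inv_mem h)
          have h4 := (hJ _ y.2).resolve_left hy
          have h6 := (hJ _ (J.inv_mem haJ)).resolve_left hai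
          -- `y a` normalises the kernel
          intro n
          have h7 : ∀ m : N, (MulAut.conjNormal (y : G) : MulAut N) m ∈ chKer α ↔
              (MulAut.conjNormal a⁻¹ : MulAut N) m ∈ chKer α := by
            intro m
            rw [← mem_ker_cj, ← mem_ker_cj, h4, h6]
          have h8 := h7 ((MulAut.conjNormal a : MulAut N) n)
          rw [← MulAut.mul_apply, ← map_mul, ← MulAut.mul_apply, ← map_mul, inv_mul_cancel, map_one] at h8
          exact h8
      exact le_of_eq h3
  have hTJ : (TT N α).index ≤ 2 * J.index := by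
    have h3 : (TT N α).index ≤ (TT N α ⊓ J).index :=
      Nat.le_of_dvd (Nat.pos_of_ne_zero Subgroup.index_ne_zero_of_finite) (Subgroup.index_dvd_of_le inf_le_left)
    have h4 : (TT N α ⊓ J).relIndex J * J.index = (TT N α ⊓ J).index := Subgroup.relIndex_mul_index inf_le_right
    rw [Subgroup.inf_relIndex_right] at h4
    have h5 := Nat.mul_le_mul_right J.index hrel
    omega
  obtain ⟨χ', hχ', ho'⟩ := H672.exists_over_subtype N hβ
  have h3 := H672.index_mul_charDegree_dvd N hχ' hβ ho'
  rw [hβ1, ← hJdef] at h3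
  have h4 := Nat.le_of_dvd (H672.charDegree_pos hχ') h3
  have h5' : charDegree χ' ≤ q + 1 := by
    rcases hD (⟨⟨χ', hχ'⟩, rfl⟩ : charDegree χ' ∈ charDegrees G) with h | h | h | h | h | h <;> omega
  have h6 : (TT N α).index * b ^ 2 ≤ 2 * (q + 1) := by
    have h7 : (TT N α).index * b ^ 2 ≤ 2 * J.index * b ^ 2 := Nat.mul_le_mul_right _ hTJ
    have h8 : 2 * J.index * b ^ 2 = 2 * (J.index * b ^ 2) := by ring
    omega
  have h7 : 2 ≤ (TT N α).index := by
    have h8 : (TT N α).index ≠ 0 := Subgroup.index_ne_zero_of_finite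
    have h9 : (TT N α).index ≠ 1 := fun h => hne (Subgroup.index_eq_one.1 h)
    omega
  exact numeric h7 hb h5 h6 h2

end Cfsg.Agent.H691.KOne
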