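import Cfsg.Agent.H691.KOneBase
import Cfsg.Agent.H686.SlCentral
import Cfsg.Agent.H686.PGal

/-!
# The characteristic divides the order of the simple quotient of `G'` (helper691)
-/

set_option autoImplicit false

open scoped commutatorElement

namespace Cfsg.Agent.H691.PDvd

open Cfsg Cfsg.Agent.Characters Cfsg.Agent.Characters.Core Cfsg.Agent.H681.DegBasic Cfsg.Agent.H686.CharKit

universe u

/-- A nonlinear degree of a nonabelian group. -/
theorem exists_nonlinear {P : Type u} [Group P] [Finite P] (hna : ¬ IsMulCommutative P) :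
    ∃ d ∈ charDegrees P, d ≠ 1 := by
  have h1 : commutator P ≠ ⊥ := by
    intro h
    apply hna
    refine ⟨⟨fun a b => ?_⟩⟩
    have h2 : ⁅a, b⁆ ∈ commutator P :=
      Subgroup.commutator_mem_commutator (Subgroup.mem_top a) (Subgroup.mem_top b)
    rw [h, Subgroup.mem_bot, commutatorElement_eq_one_iff_mul_comm] at h2
    exact h2
  obtain ⟨χ, hχ⟩ := Cfsg.Agent.H686.PGal.exists_nonlinear h1
  refine ⟨charDegree (χ : P → ℂ), ⟨χ, rfl⟩, fun h => hχ ((charDegree_eq_one_iff χ).1 h)⟩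

theorem eq_of_dvd_mem {p f d : ℕ} (hp : p.Prime) (hf : f ≠ 0) (hd : d ∈ DS (p ^ f)) (hpd : p ∣ d) : d = p ^ f := by
  have hpq : p ∣ p ^ f := dvd_pow_self p hf
  have h1 : ¬ p ∣ 1 := hp.one_lt.ne' ∘ Nat.dvd_one.1
  rcases hd with h | h | h | h | h | h
  · exact (h1 (h ▸ hpd)).elim
  · exact h
  · exact (h1 ((Nat.dvd_add_right hpd).1 (by rw [h]; exact hpq))).elim
  · exact (h1 ((Nat.dvd_add_right hpq).1 (h ▸ hpd))).elim
  · exact (h1 ((Nat.dvd_add_right hpq).1 (h ▸ (dvd_mul_of_dvd_right hpd 2)))).elim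
  · exact (h1 ((Nat.dvd_add_right (dvd_mul_of_dvd_right hpd 2)).1 (by rw [h]; exact hpq))).elim

/-- **The characteristic divides the order of every simple quotient of `G'`.** -/
theorem p_dvd {G : Type u} [Group G] [Finite G] {p f : ℕ} (hp : p.Prime) (hf : f ≠ 0)
    (hD : charDegrees G = DS (p ^ f)) (N : Subgroup G) [N.Normal] (hNp : commutator N = ⊤) (hG : commutator G = N)
    (h1 : p ^ f ≠ 1) (R : Subgroup N) [hR : R.Normal] (hna : ¬ IsMulCommutative (N ⧸ R)) :
    p ∣ Nat.card (N ⧸ R) := by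
  classical
  by_contra hcon
  have hcop : ∀ m, m ∣ Nat.card (N ⧸ R) → ∀ k, m ∣ p ^ k → m = 1 := by
    intro m hm k hk
    obtain ⟨j, -, rfl⟩ := (Nat.dvd_prime_pow hp).1 hk
    rcases Nat.eq_zero_or_pos j with rfl | hj
    · exact pow_zero p
    · exact (hcon ((dvd_pow_self p hj.ne').trans hm)).elim
  have hq : p ^ f ∈ charDegrees G := by
    rw [hD]
    exact Or.inr (Or.inl rfl)
  obtain ⟨θ, hθ, hθd, hθ1⟩ := H686.SlCentral.exists_under N hNp hG hq h1
  -- restriction to `R`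
  obtain ⟨φ, hφ, hoφ⟩ := H672.exists_under (f := R.subtype) hθ
  obtain ⟨h2, h3⟩ := H672.charDegree_dvd_of_over R hθ hφ hoφ
  have h4 : charDegree θ / charDegree φ = 1 := by
    refine hcop _ ?_ f (dvd_trans (Nat.div_dvd_of_dvd h2) hθd)
    rw [Subgroup.index_eq_card] at h3
    exact h3
  have h5 : charDegree φ = charDegree θ := by
    obtain ⟨k, hk⟩ := h2
    rw [hk, Nat.mul_div_cancel_left _ (H672.charDegree_pos hφ)] at h4
    rw [hk, h4, mul_one]
  have hθR : IsIrrCharacter R (θ ∘ R.subtype) := by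
    rw [H672.eq_of_over_of_charDegree_eq hθ hφ hoφ h5]
    exact hφ
  -- Gallagher
  obtain ⟨b, hb, hb1⟩ := exists_nonlinear hna
  have h6 : b * charDegree θ ∈ charDegrees N :=
    gallagher (QuotientGroup.mk' R) (QuotientGroup.mk'_surjective R) R
      (fun k hk => (QuotientGroup.eq_one_iff k).2 hk) hθ hθR (H672.coe_charDegree hθ).symm hb
  obtain ⟨ψ, hψ⟩ := h6
  obtain ⟨d, hd, hψd⟩ := H686.SlCentral.exists_dvd N ψ.2
  rw [hψ] at hψd
  have hpd : p ∣ charDegree θ := by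
    obtain ⟨j, -, hj⟩ := (Nat.dvd_prime_pow hp).1 hθd
    rw [hj]
    refine dvd_pow_self p ?_
    rintro rfl
    exact hθ1 (by rw [hj, pow_zero])
  rw [hD] at hd
  have h7 : d = p ^ f := eq_of_dvd_mem hp hf hd ((dvd_mul_of_dvd_right hpd b).trans hψd)
  rw [h7] at hψd
  exact hb1 (hcop b (dvd_card hb) f ((Dvd.intro _ rfl).trans hψd))

end Cfsg.Agent.H691.PDvd
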