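import Cfsg.Agent.H691.ExtChar
import Cfsg.Agent.H691.PDvd
import Cfsg.Agent.H691.Ident
import Cfsg.Agent.H691.Back
import Cfsg.Agent.H677.CodMain
import Cfsg.Agent.H279.PerfDer
import Cfsg.Agent.H279.CentProd
import Cfsg.Agent.H669.SlTwoE

/-!
# S4854, modulo the classification and the data on sporadic groups (helper691)
-/

set_option autoImplicit false

open scoped commutatorElement

namespace Cfsg.Agent.H691.Main

open Cfsg Cfsg.Agent.Characters Cfsg.Agent.Characters.Core Cfsg.Agent.H681.DegBasic Cfsg.Agent.H686.CharKit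
open Cfsg.Agent.H691.Lie Cfsg.Agent.H691.Spor

universe u v

theorem not_comm_of_perfect {M : Type u} [Group M] [Nontrivial M] (h : commutator M = ⊤) : ¬ IsMulCommutative M := by
  intro hc
  have h1 : commutator M = ⊥ := by
    rw [commutator_def, Subgroup.commutator_eq_bot_iff_le_centralizer]
    intro x _
    rw [Subgroup.mem_centralizer_iff]
    exact fun y _ => hc.is_comm.comm y x
  rw [h1] at h
  exact bot_ne_top h

theorem forward (T : TPs.{u}) (hCF : ∀ (S : Type u) [Group S] [Finite S] [IsSimpleGroup S], IsKnownSimple' S)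
    {G : Type u} [Group G] [Finite G] {F : Type v} [Field F] [Fintype F] (h5 : 5 ≤ Fintype.card F)
    (hD : charDegrees G = DS (Fintype.card F)) :
    ∃ K A : Subgroup G, Nonempty (K ≃* Matrix.SpecialLinearGroup (Fin 2) F) ∧ IsMulCommutative A ∧
      A ≤ Subgroup.centralizer (K : Set G) ∧ K ⊔ A = ⊤ := by
  classical
  obtain ⟨f, hp, hcard⟩ := FiniteField.card F (ringChar F)
  set p := ringChar F with hpdef
  have hf : (f : ℕ) ≠ 0 := f.ne_zero
  have h5' : 5 ≤ p ^ (f : ℕ) := hcard ▸ h5
  have hD' : charDegrees G = DS (p ^ (f : ℕ)) := by rw [← hcard]; exact hD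
  have hperf : ⁅commutator G, commutator G⁆ = commutator G := H279.PerfDer.perfect_derived hp h5' hD'
  obtain ⟨N, hN⟩ : ∃ N : Subgroup G, N = commutator G := ⟨_, rfl⟩
  have iN : N.Normal := by rw [hN]; infer_instance
  rw [← hN] at hperf
  have hNp : commutator N = ⊤ := by
    have h1 : (commutator N).map N.subtype = ⁅N, N⁆ := Subgroup.map_subtype_commutator N
    rw [hperf] at h1
    rw [eq_top_iff]
    intro x _
    have h2 : (x : G) ∈ (commutator N).map N.subtype := by rw [h1]; exact x.2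
    obtain ⟨y, hy, hyx⟩ := h2
    have : y = x := Subtype.ext hyx
    rwa [← this]
  have hq1 : p ^ (f : ℕ) ≠ 1 := by omega
  -- `N` is nontrivial
  have hNnt : Nontrivial N := by
    have hq : p ^ (f : ℕ) ∈ charDegrees G := by
      rw [hD']
      exact Or.inr (Or.inl rfl)
    obtain ⟨θ, hθ, -, hθ1⟩ := H686.SlCentral.exists_under N hNp hN.symm hq hq1
    by_contra hcon
    rw [not_nontrivial_iff_subsingleton] at hcon
    apply hθ1
    have h1 := dvd_card (⟨⟨θ, hθ⟩, rfl⟩ : charDegree θ ∈ charDegrees N)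
    rw [Nat.card_of_subsingleton (1 : N)] at h1
    exact Nat.dvd_one.1 h1
  obtain ⟨R₀, hR₀, hs⟩ := H677.CodMain.exists_simple_quotient (G := N)
  have hna : ¬ IsMulCommutative (N ⧸ R₀) := by
    have h1 : commutator (N ⧸ R₀) = ⊤ := by
      rw [commutator_def, ← Subgroup.map_top_of_surjective _ (QuotientGroup.mk'_surjective R₀),
        ← Subgroup.map_commutator, ← commutator_def, hNp]
    exact not_comm_of_perfect h1
  have hpd : p ∣ Nat.card (N ⧸ R₀) := PDvd.p_dvd hp hf hD' N hNp hN.symm hq1 R₀ hna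
  have hE : ∀ (A : Type u) [Group A] [Finite A] (S : Subgroup A), AS A S → HasExt A S := by
    intro A _ _ S hAS
    have := hAS.simple
    exact Ident.known_hasExt T hAS (hCF S)
  have hRn : (R₀.map N.subtype).Normal :=
    ExtChar.top_of_hasExt N hN.ge R₀ hs hna hE h5' hD'.le
  set R : Subgroup G := R₀.map N.subtype with hR
  have hRN : R ≤ N := by
    rintro _ ⟨n, -, rfl⟩
    exact n.2
  have hRsub : R.subgroupOf N = R₀ := by
    ext n
    rw [Subgroup.mem_subgroupOf]
    constructor
    · rintro ⟨m, hm, h⟩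
      have : m = n := Subtype.ext h
      rwa [← this]
    · exact fun h => ⟨n, h, rfl⟩
  have hs' : IsSimpleGroup (N ⧸ R.subgroupOf N) :=
    (QuotientGroup.quotientMulEquivOfEq hRsub).isSimpleGroup
  have hna' : ¬ IsMulCommutative (N ⧸ R.subgroupOf N) := fun hc =>
    hna ⟨⟨fun a b => (QuotientGroup.quotientMulEquivOfEq hRsub).symm.injective
      (by rw [map_mul, map_mul]; exact hc.is_comm.comm _ _)⟩⟩
  obtain ⟨hAS, e₁, -⟩ := AExt.exists_AS hRN hs' hna' hN.ge
  -- the socle is `PSL₂(q)`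
  have hpS : p ∣ Nat.card (N.map (QuotientGroup.mk' (AExt.KK N R))) := by
    rw [← Nat.card_congr e₁.toEquiv, Nat.card_congr (QuotientGroup.quotientMulEquivOfEq hRsub).toEquiv]
    exact hpd
  have hDA : charDegrees (G ⧸ AExt.KK N R) ⊆ DS (p ^ (f : ℕ)) := fun d hd =>
    hD'.le (charDegrees_comp (QuotientGroup.mk' (AExt.KK N R)) (QuotientGroup.mk'_surjective _) hd)
  have hknown : IsKnownSimple' (N.map (QuotientGroup.mk' (AExt.KK N R))) := by
    have := hAS.simple
    exact hCF _
  obtain ⟨K, iK, iK', hKc, ⟨e₂⟩⟩ := Ident.ident T hAS hp h5' hpS hDA hknown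
  have eF : K ≃+* F := FiniteField.ringEquivOfCardEq (hKc.trans hcard.symm)
  let e : (N ⧸ R.subgroupOf N) ≃* Matrix.ProjectiveSpecialLinearGroup (Fin 2) F :=
    (e₁.trans e₂).trans (LieClassical.FieldTransfer.pslCongr eF)
  have hRc : R ≤ Subgroup.centralizer (N : Set G) :=
    H669.SlTwoE.central_of_psl h5 hD.le N R hRN hperf e
  obtain ⟨e₃⟩ := H686.SlCentral.sl_of_central h5 hD N R hRN hperf hN.symm hRc e
  subst hN
  obtain ⟨h6, h7⟩ := H279.CentProd.central_product h5 hD e₃
  exact ⟨commutator G, Subgroup.centralizer (commutator G : Set G), ⟨e₃⟩, h6, le_rfl, h7⟩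

theorem backward {G : Type u} [Group G] [Finite G] {F : Type v} [Field F] [Fintype F] (h5 : 5 ≤ Fintype.card F)
    (h : ∃ K A : Subgroup G, Nonempty (K ≃* Matrix.SpecialLinearGroup (Fin 2) F) ∧ IsMulCommutative A ∧
      A ≤ Subgroup.centralizer (K : Set G) ∧ K ⊔ A = ⊤) : charDegrees G = DS (Fintype.card F) := by
  obtain ⟨K, A, ⟨e⟩, hA, hAK, hKA⟩ := h
  rw [Back.charDegrees_of_central K A hA hAK hKA, ← Back.cd_sl h5]
  ext d
  exact ⟨fun h => charDegrees_comp e.symm.toMonoidHom e.symm.surjective h,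
    fun h => charDegrees_comp e.toMonoidHom e.surjective h⟩

/-- **S4854 modulo the classification and the sporadic data.** -/
theorem main (T : TPs.{u}) (hCF : ∀ (S : Type u) [Group S] [Finite S] [IsSimpleGroup S], IsKnownSimple' S)
    {G : Type u} [Group G] [Finite G] {F : Type v} [Field F] [Fintype F] (h5 : 5 ≤ Fintype.card F) :
    charDegrees G = charDegrees (Matrix.SpecialLinearGroup (Fin 2) F) ↔
    ∃ K A : Subgroup G, Nonempty (K ≃* Matrix.SpecialLinearGroup (Fin 2) F) ∧ IsMulCommutative A ∧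
      A ≤ Subgroup.centralizer (K : Set G) ∧ K ⊔ A = ⊤ := by
  rw [Back.cd_sl h5]
  exact ⟨forward T hCF h5, backward h5⟩

end Cfsg.Agent.H691.Main
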