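import Cfsg.Agent.H691.Types
import Cfsg.Agent.H424.CentBound
import Cfsg.Agent.OrdDiv.Core
import Cfsg.Agent.H672.Over

/-!
# The sporadic groups: the criterion (helper691)

`count_false` : two elements of prime power order with small centralisers bound the order of the group by the largest
degree, if no degree is divisible by both primes.
`spor_false` : the criterion for an almost simple group with `|Out S| ≤ 2`.
-/

set_option autoImplicit false

namespace Cfsg.Agent.H691.Spor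

open Cfsg

universe u

/-- **The counting lemma.** -/
theorem count_false {S : Type u} [Group S] [Finite S] {L : List (ℕ × ℕ)} {B : ℕ} (hTP : TP S L (B ^ 2))
    (hL : ∀ y ∈ L, y.1.Prime ∧ y.2.Prime) (hle : ∀ d ∈ charDegrees S, d ≤ B)
    (hnd : ∀ y ∈ L, ∀ d ∈ charDegrees S, ¬ (y.1 ∣ d ∧ y.2 ∣ d)) : False := by
  classical
  have := Cfsg.Agent.Characters.Core.finite_irr (G := S)
  have := Fintype.ofFinite (IrrCharacter S)
  obtain ⟨l, l', x, x', hll, ⟨a, ha⟩, ⟨b, hb⟩, hlt⟩ := hTP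
  have := Fact.mk (hL _ hll).1
  have := Fact.mk (hL _ hll).2
  set P : Finset (IrrCharacter S) := Finset.univ.filter (fun χ : IrrCharacter S => ¬ l ∣ charDegree (χ : S → ℂ))
  set Q : Finset (IrrCharacter S) := Finset.univ.filter (fun χ : IrrCharacter S => ¬ l' ∣ charDegree (χ : S → ℂ))
  have hP : P.card ≤ Nat.card (Subgroup.centralizer ({x} : Set S)) :=
    H424.CentBound.card_le_centralizer ha P (fun χ hχ => (Finset.mem_filter.1 hχ).2)
  have hQ : Q.card ≤ Nat.card (Subgroup.centralizer ({x'} : Set S)) :=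
    H424.CentBound.card_le_centralizer hb Q (fun χ hχ => (Finset.mem_filter.1 hχ).2)
  have hPQ : P ∪ Q = Finset.univ := by
    ext χ
    simp only [Finset.mem_union, Finset.mem_univ, iff_true]
    by_cases h : l ∣ charDegree (χ : S → ℂ)
    · right
      exact Finset.mem_filter.2 ⟨Finset.mem_univ _, fun h' => hnd _ hll _ ⟨χ, rfl⟩ ⟨h, h'⟩⟩
    · left
      exact Finset.mem_filter.2 ⟨Finset.mem_univ _, h⟩
  have h1 : Fintype.card (IrrCharacter S) ≤ P.card + Q.card := by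
    rw [← Finset.card_univ, ← hPQ]
    exact Finset.card_union_le _ _
  have h2 := H686.CharKit.sum_deg_sq (G := S)
  have h3 : ∑ χ : IrrCharacter S, charDegree (χ : S → ℂ) ^ 2 ≤ ∑ _χ : IrrCharacter S, B ^ 2 :=
    Finset.sum_le_sum fun χ _ => Nat.pow_le_pow_left (hle _ ⟨χ, rfl⟩) 2
  rw [h2, Finset.sum_const, Finset.card_univ, smul_eq_mul] at h3
  have h4 : Fintype.card (IrrCharacter S) * B ^ 2 ≤ (Nat.card (Subgroup.centralizer ({x} : Set S)) +
      Nat.card (Subgroup.centralizer ({x'} : Set S))) * B ^ 2 := Nat.mul_le_mul_right _ (by omega)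
  omega

/-- the arithmetic check -/
def chk (ord : ℕ) (l L : List (ℕ × ℕ)) (B k : ℕ) : Bool :=
  l.all fun x => (List.range k).all fun F =>
    Nat.blt (x.1 ^ F) 5 ||
    (!(Nat.beq (x.1 ^ F) 5) && !(Nat.beq ((4 * ord) % (x.1 ^ F + 1)) 0 && Nat.beq ((4 * ord) % (x.1 ^ F - 1)) 0)) ||
    (Nat.ble (x.1 ^ F + 1) B && L.all fun y =>
      !(Nat.beq (x.1 ^ F % y.1) 0 && Nat.beq (x.1 ^ F % y.2) 0) &&
      !(Nat.beq ((x.1 ^ F + 1) % y.1) 0 && Nat.beq ((x.1 ^ F + 1) % y.2) 0) &&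
      !(Nat.beq ((x.1 ^ F - 1) % y.1) 0 && Nat.beq ((x.1 ^ F - 1) % y.2) 0))

theorem not_and_of {e a b : ℕ} (h : (!(Nat.beq (e % a) 0 && Nat.beq (e % b) 0)) = true) : ¬ (a ∣ e ∧ b ∣ e) := by
  rintro ⟨h1, h2⟩
  rw [Nat.mod_eq_zero_of_dvd h1, Nat.mod_eq_zero_of_dvd h2] at h
  exact absurd h (by decide)

theorem chk_spec {ord : ℕ} {l L : List (ℕ × ℕ)} {B k : ℕ} (h : chk ord l L B k = true) {p : ℕ} {j : ℕ}
    (hp : (p, j) ∈ l) {F : ℕ} (hF : F < k) (h5 : 5 ≤ p ^ F)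
    (hq : p ^ F = 5 ∨ (p ^ F + 1 ∣ 4 * ord ∧ p ^ F - 1 ∣ 4 * ord)) :
    p ^ F + 1 ≤ B ∧ ∀ y ∈ L, ∀ e, e = p ^ F ∨ e = p ^ F + 1 ∨ e = p ^ F - 1 → ¬ (y.1 ∣ e ∧ y.2 ∣ e) := by
  unfold chk at h
  rw [List.all_eq_true] at h
  have h1 := h _ hp
  rw [List.all_eq_true] at h1
  have h2 := h1 F (List.mem_range.2 hF)
  simp only at h2
  rw [Bool.or_eq_true, Bool.or_eq_true] at h2
  rcases h2 with (h3 | h3) | h3
  · rw [Nat.blt_eq] at h3
    omega
  · exfalso
    rw [Bool.and_eq_true] at h3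
    rcases hq with h4 | ⟨h4, h5⟩
    · rw [h4] at h3
      exact absurd h3.1 (by decide)
    · rw [Nat.mod_eq_zero_of_dvd h4, Nat.mod_eq_zero_of_dvd h5] at h3
      exact absurd h3.2 (by decide)
  · rw [Bool.and_eq_true, Nat.ble_eq, List.all_eq_true] at h3
    refine ⟨h3.1, fun y hy e he => ?_⟩
    have h4 := h3.2 y hy
    rw [Bool.and_eq_true, Bool.and_eq_true] at h4
    rcases he with rfl | rfl | rfl
    · exact not_and_of h4.1.1
    · exact not_and_of h4.1.2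
    · exact not_and_of h4.2

/-- the elements of `DS q` divide `q`, `q + 1` or `q - 1` -/
theorem ds_dvd {q x : ℕ} (h : x ∈ DS q) (hq : 1 ≤ q) : ∃ e, (e = q ∨ e = q + 1 ∨ e = q - 1) ∧ x ∣ e ∧ x ≤ q + 1 := by
  rcases h with h | h | h | h | h | h
  · exact ⟨q, Or.inl rfl, by rw [h]; exact one_dvd _, by omega⟩
  · exact ⟨q, Or.inl rfl, by rw [h], by omega⟩
  · exact ⟨q - 1, Or.inr (Or.inr rfl), dvd_of_eq (by omega), by omega⟩
  · exact ⟨q + 1, Or.inr (Or.inl rfl), by rw [h], by omega⟩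
  · exact ⟨q + 1, Or.inr (Or.inl rfl), ⟨2, by omega⟩, by omega⟩
  · exact ⟨q - 1, Or.inr (Or.inr rfl), ⟨2, by omega⟩, by omega⟩

/-- the primes of the list -/
def prs (L : List (ℕ × ℕ)) : Bool :=
  L.all fun y => OrdDiv.isPrimeB y.1 && OrdDiv.isPrimeB y.2 && !(Nat.beq y.1 y.2) && Nat.blt 8 (y.1 * y.2)

theorem prs_spec {L : List (ℕ × ℕ)} (h : prs L = true) {y : ℕ × ℕ} (hy : y ∈ L) :
    y.1.Prime ∧ y.2.Prime ∧ y.1 ≠ y.2 ∧ 8 < y.1 * y.2 := by
  unfold prs at h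
  rw [List.all_eq_true] at h
  have h1 := h y hy
  rw [Bool.and_eq_true, Bool.and_eq_true, Bool.and_eq_true, Nat.blt_eq] at h1
  refine ⟨OrdDiv.prime_of h1.1.1.1, OrdDiv.prime_of h1.1.1.2, fun h2 => ?_, h1.2⟩
  have h3 := h1.1.2
  rw [h2, Nat.beq_refl] at h3
  exact absurd h3 (by decide)

/-- The data of a sporadic group. -/
def SD (S : Type u) [Group S] : Prop :=
  Nat.card (Cfsg.Out S) ∣ 2 ∧ ∃ (ord B k : ℕ) (l L : List (ℕ × ℕ)), Nat.card S = ord ∧ TP S L (B ^ 2) ∧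
    OrdDiv.valid l ord = true ∧ prs L = true ∧ 8 ≤ B ∧ 3 ≤ k ∧ 4 * ord < 2 ^ k ∧ chk ord l L B k = true

/-- **The criterion.** -/
theorem spor_false {A : Type u} [Group A] [Finite A] {S : Subgroup A} (h : AS A S) {p F : ℕ} (hp : p.Prime)
    (h5 : 5 ≤ p ^ F) (hpS : p ∣ Nat.card S) (hD : charDegrees A ⊆ DS (p ^ F)) (hSD : SD S) : False := by
  obtain ⟨hout, ord, B, k, l, L, hord, hTP, hv, hL, -, hk3, hk, hc⟩ := hSD
  have := h.normal
  have hidx : S.index ∣ 2 := h.index_dvd_out.trans hout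
  have hi2 : S.index ≤ 2 := Nat.le_of_dvd (by norm_num) hidx
  obtain ⟨j, hj, -⟩ := OrdDiv.exists_pair hv hp (j := 1) le_rfl (by rw [pow_one, ← hord]; exact hpS)
  have hA : Nat.card A = ord * S.index := by rw [← hord, S.card_mul_index]
  have hq : p ^ F = 5 ∨ (p ^ F + 1 ∣ 4 * ord ∧ p ^ F - 1 ∣ 4 * ord) := by
    by_cases h0 : p ^ F = 5
    · exact Or.inl h0
    · right
      have h1 := h.types hp h5 hpS hD (by omega)
      have h2 : 2 * Nat.card A ∣ 4 * ord := by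
        rw [hA, show 4 * ord = 2 * (ord * 2) by ring]
        exact Nat.mul_dvd_mul_left 2 (Nat.mul_dvd_mul_left _ hidx)
      exact ⟨h1.1.trans h2, h1.2.trans h2⟩
  have hopos : 0 < ord := OrdDiv.valid_pos hv
  have hF : F < k := by
    have h1 : 2 ^ F ≤ p ^ F := Nat.pow_le_pow_left hp.two_le F
    have h2 : p ^ F < 2 ^ k := by
      rcases hq with h0 | h0
      · have h3 : 2 ^ 3 ≤ 2 ^ k := Nat.pow_le_pow_right (by norm_num) hk3
        omega
      · have := Nat.le_of_dvd (by omega) h0.1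
        omega
    exact (Nat.pow_lt_pow_iff_right (by norm_num)).1 (lt_of_le_of_lt h1 h2)
  obtain ⟨h6, h7⟩ := chk_spec hc hj hF h5 hq
  -- the degrees of `S`
  have key : ∀ d ∈ charDegrees S, ∃ e, (e = p ^ F ∨ e = p ^ F + 1 ∨ e = p ^ F - 1) ∧ d ∣ e ∧ d ≤ p ^ F + 1 := by
    rintro d ⟨θ, rfl⟩
    obtain ⟨χ, hχ, hover⟩ := H672.exists_over_subtype S θ.2
    obtain ⟨h8, -⟩ := H672.charDegree_dvd_of_over S hχ θ.2 hover
    obtain ⟨e, he, h9, h10⟩ := ds_dvd (hD ⟨⟨χ, hχ⟩, rfl⟩) (by omega)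
    have hpos : 0 < charDegree χ := H681.DegBasic.pos_of_mem (G := A) ⟨⟨χ, hχ⟩, rfl⟩
    exact ⟨e, he, h8.trans h9, (Nat.le_of_dvd hpos h8).trans h10⟩
  have : Finite S := inferInstance
  refine count_false hTP ?_ ?_ ?_
  · intro y hy
    exact ⟨(prs_spec hL hy).1, (prs_spec hL hy).2.1⟩
  · intro d hd
    obtain ⟨e, -, -, h9⟩ := key d hd
    omega
  · rintro y hy d hd ⟨h8, h9⟩
    obtain ⟨e, he, h10, -⟩ := key d hd
    exact h7 y hy e he ⟨h8.trans h10, h9.trans h10⟩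

/-- A sporadic group has an irreducible character of degree at least nine. -/
theorem exists_big {S : Type u} [Group S] [Finite S] (hSD : SD S) : ∃ d ∈ charDegrees S, 9 ≤ d := by
  obtain ⟨-, ord, B, k, l, L, -, hTP, -, hL, hB, -, -, -⟩ := hSD
  by_contra hcon
  push Not at hcon
  refine count_false hTP (fun y hy => ⟨(prs_spec hL hy).1, (prs_spec hL hy).2.1⟩)
    (fun d hd => by have := hcon d hd; omega) ?_
  rintro y hy d hd ⟨h1, h2⟩
  obtain ⟨hp1, hp2, hne, h8⟩ := prs_spec hL hy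
  have h3 : y.1 * y.2 ∣ d := Nat.Coprime.mul_dvd_of_dvd_of_dvd ((Nat.coprime_primes hp1 hp2).2 hne) h1 h2
  have h4 : 0 < d := H681.DegBasic.pos_of_mem hd
  have h5 := Nat.le_of_dvd h4 h3
  have := hcon d hd
  omega

end Cfsg.Agent.H691.Spor
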