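import Cfsg.Agent.H691.Spor
import Cfsg.Agent.H491.TPMathieu
import Cfsg.Agent.H474.TP.All

/-!
# The data on the sporadic groups (helper691; data by helper491 and helper474)
-/

set_option autoImplicit false

namespace Cfsg.Agent.H691.TPsAll

open Cfsg Cfsg.Agent.H691.Spor

universe u

theorem tps : TPs.{u} where
  tits := fun _ _ h => H474.TPRows.tits h
  m11 := fun _ _ h => H491.TPM.m11 h
  m12 := fun _ _ h => H491.TPM.m12 h
  m22 := fun _ _ h => H491.TPM.m22 h
  m23 := fun _ _ h => H491.TPM.m23 h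
  m24 := fun _ _ h => H491.TPM.m24 h
  j1 := fun _ _ h => H491.TPM.j1 h
  j2 := fun _ _ h => H474.TPRows.j2 h
  j3 := fun _ _ h => H474.TPRows.j3 h
  j4 := fun _ _ h => H474.TPRows.j4 h
  co1 := fun _ _ h => H474.TPRows.co1 h
  co2 := fun _ _ h => H474.TPRows.co2 h
  co3 := fun _ _ h => H474.TPRows.co3 h
  mcl := fun _ _ h => H474.TPRows.mcl h
  hs := fun _ _ h => H474.TPRows.hs h
  suz := fun _ _ h => H474.TPRows.suz h
  he := fun _ _ h => H474.TPRows.he h
  ru := fun _ _ h => H474.TPRows.ru h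
  on := fun _ _ h => H474.TPRows.on h
  ly := fun _ _ h => H474.TPRows.ly h
  fi22 := fun _ _ h => H474.TPRows.fi22 h
  fi23 := fun _ _ h => H474.TPRows.fi23 h
  fi24 := fun _ _ h => H474.TPRows.fi24 h
  hn := fun _ _ h => H474.TPRows.hn h
  th := fun _ _ h => H474.TPRows.th h
  b := fun _ _ h => H474.TPRows.b h
  m := fun _ _ h => H474.TPRows.m h

end Cfsg.Agent.H691.TPsAll
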